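import Groth.Agent.Lib.NumTriv12.Pencil
import Groth.Agent.Lib.NegTwist.Avoid
import Groth.Agent.Lib.CodimExt27.Basic
import Groth.Agent.Lib.Snapper.DimLT
import Mathlib.AlgebraicGeometry.Morphisms.FiniteType

/-!
# A pencil of sections through a curve, and dimensions after a field extension
-/

universe u

set_option autoImplicit false
set_option linter.all false
set_option backward.isDefEq.respectTransparency false
set_option maxHeartbeats 1000000

open CategoryTheory CategoryTheory.Limits AlgebraicGeometry TopologicalSpace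

noncomputable section

namespace GrothLib.NumTriv12

open GrothLib.Ample (Cocycle)
open GrothLib.Snapper (IsTop DimLT)

variable (k : Type u) [Field k] {X : Scheme.{u}} [X.Over (Spec (CommRingCat.of k))]
  [IsProper (X ↘ Spec (CommRingCat.of k))] [IsIntegral X]

/-- The base change of an integral scheme to the rational functions has the same dimension. -/
theorem dim_bc : topologicalKrullDim (Curv2.bc k X (RatFunc k)) = topologicalKrullDim X := by
  let e := pullbackSymmetry (X ↘ Spec (CommRingCat.of k))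
    (Spec.map (CommRingCat.ofHom (algebraMap k (RatFunc k))))
  haveI : IrreducibleSpace ↥(pullback (Spec.map (CommRingCat.ofHom (algebraMap k (RatFunc k))))
      (X ↘ Spec (CommRingCat.of k))) :=
    Function.Surjective.irreducibleSpace (f := e.hom.homeomorph) (Homeomorph.continuous _) (Homeomorph.surjective _)
  rw [IsHomeomorph.topologicalKrullDim_eq _ e.hom.homeomorph.isHomeomorph,
    ← IsHomeomorph.topologicalKrullDim_eq _ (Homeomorph.Set.univ _).isHomeomorph]
  refine Dim.topologicalKrullDim_component_pullback (X ↘ Spec (CommRingCat.of k)) Set.univ ?_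
  rw [irreducibleComponents_eq_singleton]; exact Set.mem_singleton _

include k in
/-- A point of small dimension has a proper generisation other than the generic point. -/
theorem exists_between {s : ℕ} (hd : topologicalKrullDim X = ((s + 3 : ℕ) : WithBot ℕ∞)) {C : Set X}
    (hC : IsClosed C) (hC1 : topologicalKrullDim C ≤ ((1 : ℕ) : WithBot ℕ∞)) {x : X} (hx : x ∈ C) :
    ∃ y, y ≠ genericPoint X ∧ y ⤳ x ∧ y ≠ x := by
  have h1 := CodimExt27.ptDim_add_dim_stalk (X ↘ Spec (CommRingCat.of k)) (n := s + 3) (fun Z hZ => by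
    rw [irreducibleComponents_eq_singleton, Set.mem_singleton_iff] at hZ
    subst hZ
    rw [IsHomeomorph.topologicalKrullDim_eq _ (Homeomorph.Set.univ X).isHomeomorph, hd]) x
  obtain ⟨a, ha⟩ := AffDom.exists_nat_ptDim (X ↘ Spec (CommRingCat.of k)) x
  have ha1 : a ≤ 1 := by
    have : AffDom.ptDim x ≤ ((1 : ℕ) : WithBot ℕ∞) :=
      le_trans ((Topology.IsEmbedding.inclusion (hC.closure_subset_iff.2 (Set.singleton_subset_iff.2 hx))).isInducing.topologicalKrullDim_le) hC1
    rw [ha] at this
    exact_mod_cast this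
  rw [ha, ringKrullDim_stalk_eq_coheight] at h1
  have h2 : ((2 : ℕ) : ℕ∞) ≤ Order.coheight x := by
    cases hc : Order.coheight x with
    | top => exact le_top
    | coe n =>
      rw [hc] at h1
      have : a + n = s + 3 := by
        have h3 : ((a + n : ℕ) : WithBot ℕ∞) = ((s + 3 : ℕ) : WithBot ℕ∞) := by rw [Nat.cast_add]; exact h1
        exact Nat.cast_inj.1 h3
      exact Nat.cast_le.2 (by omega)
  obtain ⟨p, hp, hpl⟩ := Order.exists_series_of_le_coheight x h2
  have h01 : p 0 < p ⟨1, by omega⟩ := p.strictMono (by rw [Fin.lt_def]; simp)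
  have h12 : p ⟨1, by omega⟩ < p ⟨2, by omega⟩ := p.strictMono (by rw [Fin.lt_def]; simp)
  have hp0 : p 0 = x := hp
  rw [hp0] at h01
  refine ⟨p ⟨1, by omega⟩, fun h => ?_, Scheme.le_iff_specializes.1 h01.le, h01.ne'⟩
  rw [h] at h12
  exact h12.not_ge (Scheme.le_iff_specializes.2 ((genericPoint_spec X).specializes trivial))

include k in
/-- Two sections of the same degree whose common zeros contain a given curve and are of codimension two. -/
theorem exists_sections {s : ℕ} (hd : topologicalKrullDim X = ((s + 3 : ℕ) : WithBot ℕ∞)) {c : Cocycle X}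
    (hc : c.IsAmp) {C : Set X} (hC : IsClosed C) (hC1 : topologicalKrullDim C ≤ ((1 : ℕ) : WithBot ℕ∞)) :
    ∃ (m : ℕ) (U V : c.sect m ⊤), 0 < m ∧ Good c U V ∧ ∀ x ∈ C, x ∉ c.locus U ∧ x ∉ c.locus V := by
  haveI := Euler.isNoetherian_of_proper (X := X) k
  haveI : JacobsonSpace X := LocallyOfFiniteType.jacobsonSpace (X ↘ Spec (CommRingCat.of k))
  let η := genericPoint X
  have hηC : η ∉ C := fun h => by
    obtain ⟨y, hy1, hy2, -⟩ := exists_between k hd hC hC1 h
    exact hy1 (hy2.antisymm ((genericPoint_spec X).specializes trivial)).eq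
  obtain ⟨q, hq1, hq2⟩ := nonempty_inter_closedPoints (Z := Cᶜ) ⟨η, hηC⟩ hC.isOpen_compl.isLocallyClosed
  rw [mem_closedPoints_iff] at hq2
  have hqη : η ≠ q := fun h => by
    have hz : topologicalKrullDim (closure ({η} : Set X)) = ((s + 3 : ℕ) : WithBot ℕ∞) := by
      rw [(genericPoint_spec X).def, IsHomeomorph.topologicalKrullDim_eq _ (Homeomorph.Set.univ X).isHomeomorph, hd]
    obtain ⟨l, hl, hlen⟩ := (show IsTop (s + 3) η from hz).exists_series
    rw [h, hq2.closure_eq] at hl
    have h0 : l 0 < l ⟨1, by omega⟩ := l.strictMono (by rw [Fin.lt_def]; simp)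
    exact h0.ne ((hl 0).trans (hl ⟨1, by omega⟩).symm)
  obtain ⟨n, a, ha, haO, -⟩ := c.exists_affine_locus_le hc (O := ⟨(C ∪ {q})ᶜ, (hC.union hq2).isOpen_compl⟩)
    (show η ∈ (C ∪ {q})ᶜ from fun h => h.elim hηC hqη)
  have hMf : {y : X | y ∉ c.locus a ∧ ∀ z, z ∉ c.locus a → z ⤳ y → z = y}.Finite :=
    Snapper.finite_of_maximal (c.locus a).2.isClosed_compl (fun y hy => hy.1) fun y hy z hz hzy => hy.2 z hz hzy
  obtain ⟨m₁, u, hm₁, hu, huT⟩ := NegTwist.exists_sect_avoid c hc
    (T := ({y : X | y ∉ c.locus a ∧ ∀ z, z ∉ c.locus a → z ⤳ y → z = y} \ C) ∪ {q})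
    ((hMf.diff).union (Set.finite_singleton q))
    (fun j v => ∀ x ∈ C, x ∉ c.locus v) (fun h v hv x hx => hv x hx)
    (fun v w hv x hx => by rw [c.locus_mul]; exact fun h => hv x hx h.1)
    (fun v w hv hw x hx h => by
      obtain ⟨i, hi⟩ := c.exists_mem x
      rw [mem_locus_of_basic c hi] at h
      rw [AddSubgroup.coe_add, Pi.add_apply, map_add] at h
      rcases IsLocalRing.isUnit_or_isUnit_of_isUnit_add h with h | h
      · exact hv x hx ((mem_locus_of_basic c hi v).2 h)
      · exact hw x hx ((mem_locus_of_basic c hi w).2 h))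
    (fun j x hx h => by
      obtain ⟨i, hi⟩ := c.exists_mem x
      rw [mem_locus_of_basic c hi] at h
      exact not_isUnit_zero ((by simpa using h) : IsUnit (0 : X.presheaf.stalk x)))
    (fun y hy => by
      have hyC : y ∉ C := by
        rcases hy with hy | hy
        · exact hy.2
        · rw [Set.mem_singleton_iff] at hy; exact hy ▸ hq1
      obtain ⟨e, v, hv1, hv2, -⟩ := c.exists_affine_locus_le hc (O := ⟨Cᶜ, hC.isOpen_compl⟩) hyC
      exact ⟨e + 1, v, fun x hx h => hv2 h hx, hv1⟩)
  let U : c.sect (m₁ * (n + 1)) ⊤ := c.sectPow u (n + 1)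
  let V : c.sect (m₁ * (n + 1)) ⊤ := c.sectCast (Nat.mul_comm _ _) (c.sectPow a m₁)
  have hlU : c.locus U = c.locus u := c.locus_sectPow u (Nat.succ_pos n)
  have hlV : c.locus V = c.locus a := (c.locus_sectCast _ _).trans (c.locus_sectPow a hm₁)
  have haC : ∀ x ∈ C, x ∉ c.locus a := fun x hx h => haO h (Or.inl hx)
  refine ⟨m₁ * (n + 1), U, V, Nat.mul_pos hm₁ (Nat.succ_pos n), ⟨by rw [hlV]; exact ha, ⟨q, ?_, ?_⟩, fun x h1 h2 => ?_⟩,
    fun x hx => ⟨by rw [hlU]; exact hu x hx, by rw [hlV]; exact haC x hx⟩⟩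
  · rw [hlU]; exact huT q (Or.inr rfl)
  · rw [hlV]; exact fun h => haO h (Or.inr rfl)
  · rw [hlU] at h1
    rw [hlV] at h2
    by_cases hxC : x ∈ C
    · exact exists_between k hd hC hC1 hxC
    · have hnot : ¬ ∀ z, z ∉ c.locus a → z ⤳ x → z = x := fun h => h1 (huT x (Or.inl ⟨⟨h2, h⟩, hxC⟩))
      push Not at hnot
      obtain ⟨z, hz1, hz2, hz3⟩ := hnot
      exact ⟨z, fun h => hz1 (h ▸ ha), hz2, hz3⟩

end GrothLib.NumTriv12
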