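import Groth.Agent.Lib.NumTriv12.Numbers
import Groth.Agent.Lib.NumTriv12.Sections
import Groth.Agent.Lib.HodgeProper12.Main
import Groth.Agent.Lib.DivDiff10.Basic
import Groth.Agent.Lib.ProperOver.Basic

/-!
# Numerical triviality from two intersection numbers
-/

universe u

set_option autoImplicit false
set_option linter.all false
set_option backward.isDefEq.respectTransparency false
set_option maxHeartbeats 2000000
set_option synthInstance.maxHeartbeats 100000

open CategoryTheory CategoryTheory.Limits AlgebraicGeometry TopologicalSpace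

noncomputable section

namespace GrothLib.NumTriv12

open GrothLib.Cube (Pic clsMod pull HasCls hasCls_clsMod)
open GrothLib.HodgeIndex (rep isInv_rep cls_rep)
open GrothLib.Snapper (IsTop DimLT mult phi mixed ptMod topTerm)
open GrothLib.FGAInt26 (del ev del_cons)

/-- A class has degree zero on every integral curve. -/
def NumTriv (k : Type u) [Field k] (X : Scheme.{u}) [X.Over (Spec (CommRingCat.of k))] (x : Pic X) : Prop :=
  ∀ (Y : Scheme.{u}) (i : Y ⟶ X) [IsClosedImmersion i], IsIntegral Y → topologicalKrullDim Y = 1 →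
    @ev Y k _ ⟨i ≫ X ↘ Spec (CommRingCat.of k)⟩ (Coh.structureModule Y) (pull i x) =
      @ev Y k _ ⟨i ≫ X ↘ Spec (CommRingCat.of k)⟩ (Coh.structureModule Y) 1

/-- The hypothesis on intersection numbers. -/
structure Orth (k : Type u) [Field k] (X : Scheme.{u}) [X.Over (Spec (CommRingCat.of k))] (s : ℕ)
    (h x : Pic X) : Prop where
  orth : del (ev k (Coh.structureModule X)) (Fin.cons x (fun _ => h) : Fin (s + 2) → Pic X) = 0
  sq : 0 ≤ (-1) ^ s *
    del (ev k (Coh.structureModule X)) (Fin.cons x (Fin.cons x (fun _ => h) : Fin (s + 1) → Pic X) : Fin (s + 2) → Pic X)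

/-- The statement in dimension `s + 2`. -/
def Holds (s : ℕ) : Prop :=
  ∀ (k : Type u) [Field k] (X : Scheme.{u}) [X.Over (Spec (CommRingCat.of k))]
    [IsProper (X ↘ Spec (CommRingCat.of k))] [IsIntegral X],
    topologicalKrullDim X = ((s + 2 : ℕ) : WithBot ℕ∞) →
      ∀ (H : X.Modules) (hH : CohB1.IsAmple H) (x : Pic X), Orth k X s (clsMod hH.1) x → NumTriv k X x

theorem surface : Holds.{u} 0 := by
  intro k _ X _ _ _ hdim H hH x ho Y i _ _ hY
  haveI := Euler.isNoetherian_of_proper (X := X) k
  have hdel : ∀ a b : Pic X, (HodgeIndex.isect k a b : ℚ) = (del (ev k (Coh.structureModule X)) ![a, b] : ℚ) :=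
    fun a b => by rw [FGAInt26.cast_del, HodgeProper12.mixed_pair]; ring
  have hdel' : ∀ a b : Pic X, HodgeIndex.isect k a b = del (ev k (Coh.structureModule X)) ![a, b] :=
    fun a b => by exact_mod_cast hdel a b
  have e : ∀ a : Pic X, (Fin.cons a (fun _ => clsMod hH.1) : Fin 2 → Pic X) = ![a, clsMod hH.1] := fun a => by
    funext j; fin_cases j <;> rfl
  have hhh : 0 < HodgeIndex.isect k (clsMod hH.1) (clsMod hH.1) := by
    have h := pos_const k (r := 2) hdim hH
    rw [← cons_const (clsMod hH.1) 1, e] at h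
    rw [hdel']
    simpa using h
  have h1 : HodgeIndex.isect k x (clsMod hH.1) = 0 := by
    rw [hdel', ← e]; exact ho.orth
  have h2 : 0 ≤ HodgeIndex.isect k x x := by
    have h := ho.sq
    rw [show (Fin.cons x (Fin.cons x (fun _ => clsMod hH.1) : Fin 1 → Pic X) : Fin 2 → Pic X) = ![x, x] from by
      funext j; fin_cases j <;> rfl] at h
    rw [hdel']
    simpa using h
  have h0 : ∀ c : X, IsTop 1 c → HodgeIndex.deg k c (clsMod (isInv_rep x)) = 0 := fun c hc => by
    rw [cls_rep]; exact HodgeProper12.deg_eq_zero_of_orth k hdim hhh h1 h2 hc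
  have h3 := HodgeProper12.intNum_curve_eq_zero k hdim (isInv_rep x) i hY h0
  rw [FGAInt26.intNum_eq k hdim.le (fun j => by fin_cases j; exact isInv_rep x)] at h3
  have e1 : (fun j : Fin 1 => clsMod (show PicF.IsInvertible (![rep x] j) by fin_cases j; exact isInv_rep x)) =
      (Fin.cons x (fun j : Fin 0 => j.elim0) : Fin 1 → Pic X) := by
    funext j; fin_cases j; exact cls_rep x
  rw [e1, del_cons] at h3
  simp [del] at h3
  letI : Y.Over (Spec (CommRingCat.of k)) := ⟨i ≫ X ↘ Spec (CommRingCat.of k)⟩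
  have hx : HasCls (rep x) x := ⟨isInv_rep x, cls_rep x⟩
  rw [FGAInt26.ev_push k i rfl hx, FGAInt26.ev_push k i rfl (Cube.hasCls_structureModule X),
    ← evO k (hx.pullback i), ← evO k ((Cube.hasCls_structureModule X).pullback i), map_one] at h3
  omega

theorem step {s : ℕ} (ih : Holds.{u} s) : Holds.{u} (s + 1) := by
  intro k _ X _ _ _ hdim H hH x ho Y i _ hYi hY
  haveI := Euler.isNoetherian_of_proper (X := X) k
  haveI := hYi
  obtain ⟨c, ⟨e⟩⟩ := Ample.exists_cocycle hH.1
  have hc : c.IsAmp := ((c.isAmple_iff e).1 hH).2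
  have hcls : clsMod hH.1 = Cube.cls c := Cube.clsMod_eq hH.1 e
  have hCd : topologicalKrullDim (Set.range i) ≤ ((1 : ℕ) : WithBot ℕ∞) := by
    rw [← i.isEmbedding.toHomeomorph.isHomeomorph.topologicalKrullDim_eq, hY]; exact le_rfl
  obtain ⟨m, U, V, hm, hgood, hC⟩ := exists_sections k hdim hc i.isClosedEmbedding.isClosed_range hCd
  let K := RatFunc k
  let g := Curv2.bcFst k X K
  haveI := Hilb20.isProper_bc (X := X) k K
  haveI : IsAffineHom g := MorphismProperty.pullback_fst _ _ inferInstance
  haveI := Euler.isNoetherian_of_proper (X := Curv2.bc k X K) K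
  obtain ⟨z₀, hT, hgen⟩ := exists_generic k hgood
  have hη : ∀ y, Curv2.IsWeakAssPoint (Coh.structureModule (Curv2.bc k X K)) y →
      y ∈ (c.comap g).locus (pencil k c U V) := fun y hy => by
    rw [← (WeakAss.isWeakAssPoint_structure_iff y).1 hy _ ((genericPoint_spec _).specializes trivial)]
    exact hgen
  obtain ⟨I, hI, hdisj, ⟨eI⟩⟩ := DivDiff10.exists_effCartier (c.comap g) (pencil k c U V) hη
  have hII : PicF.IsInvertible (ClSub.idealMod I) := IdealModSec.isInvertible_of_isEffCartier hI
  have hIcls : clsMod hII = ((pull g (clsMod hH.1)) ^ m)⁻¹ := by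
    rw [DivDiff10.cls_idealMod (c.comap g) hII eI, hcls, Cube.pull_cls, inv_pow]
  -- the numbers on the member
  haveI := Euler.epi_toSubscheme I
  let S := ShortComplex.mk (ClSub.idealModι I) (ClSub.toSubscheme I) (kernel.condition _)
  haveI : Mono S.f := inferInstanceAs (Mono (kernel.ι (ClSub.toSubscheme I)))
  haveI : Epi S.g := Euler.epi_toSubscheme I
  have hS : S.ShortExact := { exact := ShortComplex.exact_of_f_is_kernel _ (kernelIsKernel _) }
  have hO : Coh.IsCoh (Coh.structureModule (Curv2.bc k X K)) := Kleiman.isCoh_O K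
  have hQ : Coh.IsCoh (ClSub.quotMod I) := QCoh.pushUnit_isCoh I.subschemeι
  have hev : ∀ w, ev K (ClSub.quotMod I) w = ev K (Coh.structureModule (Curv2.bc k X K)) w -
      ev K (Coh.structureModule (Curv2.bc k X K)) (((pull g (clsMod hH.1)) ^ m)⁻¹ * w) := fun w => by
    have h : ev K (Coh.structureModule (Curv2.bc k X K)) w = ev K (ClSub.idealMod I) w + ev K (ClSub.quotMod I) w :=
      FGAInt26.ev_additive K hS (Euler.isCoh_of_isInvertible hII) hO hQ w
    have hw : HasCls (rep w) w := ⟨isInv_rep w, cls_rep w⟩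
    have h2 : ev K (ClSub.idealMod I) w = ev K (Coh.structureModule (Curv2.bc k X K)) (clsMod hII * w) := by
      rw [← FGAInt26.euler_tensor_eq' K hw, evO K ((hasCls_clsMod hII).tensor hw)]
    rw [hIcls] at h2
    omega
  have hdimK : topologicalKrullDim (Curv2.bc k X K) = ((s + 3 : ℕ) : WithBot ℕ∞) := (dim_bc k).trans hdim
  have hOd : DimLT (CohB1.support (Coh.structureModule (Curv2.bc k X K))) ((s + 2) + 2) :=
    HodgeIndex.support_structure_dimLT K hdimK.le
  have hdelF : ∀ z : Fin (s + 2) → Pic (Curv2.bc k X K), del (ev K (ClSub.quotMod I)) z =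
      - ((m : ℤ) * del (ev K (Coh.structureModule (Curv2.bc k X K)))
        (Fin.cons (pull g (clsMod hH.1)) z : Fin (s + 3) → Pic (Curv2.bc k X K))) := fun z => by
    rw [funext hev, FGAInt26.del_sub, ← del_cons, del_inv_cons K hO hOd, FGAInt26.del_pow K hO hOd]
  have hsupp : CohB1.support (ClSub.quotMod I) ⊆ closure {z₀} := by
    refine (QCoh.support_pushforward_subset_range I.subschemeι _).trans ?_
    rw [I.range_subschemeι, ← hT]
    exact hdisj.subset_compl_right
  have hz₀d : DimLT (closure ({z₀} : Set ↥(Curv2.bc k X K))) (s + 2 + 1) := by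
    refine Snapper.dimLT_of_notMem (η := genericPoint (Curv2.bc k X K)) ?_
      (by rw [(genericPoint_spec _).def]; exact fun _ _ => trivial) (by rw [← hT]; exact fun h => h hgen)
    rw [(genericPoint_spec _).def]
    exact Kleiman.dimLT_univ hdimK.le
  let J := Scheme.IdealSheafData.vanishingIdeal
    (⟨closure {z₀}, isClosed_closure⟩ : Closeds ↥(Curv2.bc k X K))
  letI : J.subscheme.Over (Spec (CommRingCat.of K)) := ⟨J.subschemeι ≫ Curv2.bc k X K ↘ Spec (CommRingCat.of K)⟩
  haveI : IsProper (J.subscheme ↘ Spec (CommRingCat.of K)) :=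
    inferInstanceAs (IsProper (J.subschemeι ≫ Curv2.bc k X K ↘ Spec (CommRingCat.of K)))
  haveI : IsIntegral J.subscheme := Snapper.isIntegral_pt z₀
  obtain ⟨n, hn, hnum⟩ := top_scale K hQ hsupp hz₀d
  have hkey : ∀ z : Fin (s + 2) → Pic X,
      (n : ℤ) * del (ev K (Coh.structureModule J.subscheme)) (fun j => pull J.subschemeι (pull g (z j))) =
        - ((m : ℤ) * del (ev k (Coh.structureModule X)) (Fin.cons (clsMod hH.1) z : Fin (s + 3) → Pic X)) := fun z => by
    rw [← hnum (fun j => pull g (z j)), hdelF, ← del_hom (pull g) (fun w => evO_bc k K w)]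
    congr 3
    funext j
    refine Fin.cases ?_ (fun j => ?_) j <;> simp [g]
  have hpos := pos_const k hdim hH
  have hn0 : n ≠ 0 := fun h0 => by
    have h := hkey (fun _ => clsMod hH.1)
    rw [h0, cons_const (clsMod hH.1) (s + 2)] at h
    rcases mul_eq_zero.1 (neg_eq_zero.1 (h.symm.trans (by simp))) with h' | h'
    · omega
    · rw [h', mul_zero] at hpos; exact lt_irrefl _ hpos
  have hz₀ : IsTop (s + 2) z₀ := hn hn0
  have hJd : topologicalKrullDim J.subscheme = ((s + 2 : ℕ) : WithBot ℕ∞) := by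
    refine (IsHomeomorph.topologicalKrullDim_eq _
      J.subschemeι.isClosedEmbedding.isEmbedding.toHomeomorph.isHomeomorph).trans ?_
    rw [Snapper.range_pt]
    exact hz₀
  have hA : CohB1.IsAmple ((Scheme.Modules.pullback J.subschemeι).obj ((Scheme.Modules.pullback g).obj H)) :=
    Ample.isAmple_pullback_of_isAffineHom J.subschemeι (Ample.isAmple_pullback_of_isAffineHom g hH)
  have hAcls : clsMod hA.1 = pull J.subschemeι (pull g (clsMod hH.1)) := by
    rw [← Cube.clsMod_pullback g hH.1, ← Cube.clsMod_pullback J.subschemeι]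
  have hoT : Orth K J.subscheme s (clsMod hA.1) (pull J.subschemeι (pull g x)) := by
    rw [hAcls]
    refine ⟨?_, ?_⟩
    · have h := hkey (Fin.cons x (fun _ => clsMod hH.1) : Fin (s + 2) → Pic X)
      rw [del_swap, cons_const, ho.orth, mul_zero, neg_zero] at h
      refine Eq.trans (congrArg _ ?_) ((mul_eq_zero.1 h).resolve_left (by exact_mod_cast hn0))
      funext j
      refine Fin.cases ?_ (fun j => ?_) j <;> simp [J]
    · have h := hkey (Fin.cons x (Fin.cons x (fun _ => clsMod hH.1) : Fin (s + 1) → Pic X) : Fin (s + 2) → Pic X)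
      rw [del_swap, del_cons, del_swap _ (clsMod hH.1) x, del_swap (fun w => ev k (Coh.structureModule X) (x * w)) (clsMod hH.1) x,
        ← del_cons, cons_const] at h
      rw [show (Fin.cons (pull J.subschemeι (pull g x)) (Fin.cons (pull J.subschemeι (pull g x))
          (fun _ => pull J.subschemeι (pull g (clsMod hH.1))) : Fin (s + 1) → Pic J.subscheme) : Fin (s + 2) → Pic J.subscheme) =
          fun j => pull J.subschemeι (pull g ((Fin.cons x (Fin.cons x (fun _ => clsMod hH.1) : Fin (s + 1) → Pic X) :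
            Fin (s + 2) → Pic X) j)) from by
        funext j
        refine Fin.cases ?_ (fun j => ?_) j
        · simp [J]
        · refine Fin.cases ?_ (fun j => ?_) j <;> simp [J]]
      have hs := ho.sq
      rw [pow_succ] at hs
      refine (mul_nonneg_iff_of_pos_left (show (0 : ℤ) < n by exact_mod_cast Nat.pos_of_ne_zero hn0)).1 ?_
      rw [mul_left_comm, h]
      have := mul_nonneg (show (0 : ℤ) ≤ m by exact_mod_cast hm.le) hs
      linarith
  have hJ := ih K J.subscheme hJd _ hA _ hoT
  -- the curve over the rational functions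
  letI : Y.Over (Spec (CommRingCat.of k)) := ⟨i ≫ X ↘ Spec (CommRingCat.of k)⟩
  haveI : IsProper (Y ↘ Spec (CommRingCat.of k)) := inferInstanceAs (IsProper (i ≫ X ↘ Spec (CommRingCat.of k)))
  haveI := Hilb20.isProper_bc (X := Y) k K
  let φ : Curv2.bc k Y K ⟶ Curv2.bc k X K :=
    pullback.lift (Curv2.bcFst k Y K ≫ i) (Curv2.bcSnd k Y K) (by rw [Category.assoc]; exact pullback.condition)
  have hφ1 : φ ≫ g = Curv2.bcFst k Y K ≫ i := pullback.lift_fst _ _ _
  have hφ2 : φ ≫ Curv2.bcSnd k X K = Curv2.bcSnd k Y K := pullback.lift_snd _ _ _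
  haveI : IsClosedImmersion φ := by
    have ho : IsPullback (φ ≫ Curv2.bcSnd k X K) (Curv2.bcFst k Y K)
        (Spec.map (CommRingCat.ofHom (algebraMap k K))) (i ≫ X ↘ Spec (CommRingCat.of k)) := by
      rw [hφ2]; exact (IsPullback.of_hasPullback _ _).flip
    exact MorphismProperty.of_isPullback
      (IsPullback.of_right ho hφ1 (IsPullback.of_hasPullback _ _).flip).flip ‹IsClosedImmersion i›
  have hφr : Set.range φ ⊆ closure {z₀} := by
    rintro _ ⟨y, rfl⟩
    rw [← hT]
    have he : g (φ y) = i (Curv2.bcFst k Y K y) := by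
      rw [← Scheme.Hom.comp_apply, hφ1, Scheme.Hom.comp_apply]
    obtain ⟨h1, h2⟩ := hC _ ⟨Curv2.bcFst k Y K y, rfl⟩
    exact notMem_locus k (z := φ y) (by rw [show Curv2.bcFst k X (RatFunc k) (φ y) = _ from he]; exact h1)
      (by rw [show Curv2.bcFst k X (RatFunc k) (φ y) = _ from he]; exact h2)
  obtain ⟨σ, hσ⟩ := ProperOver.exists_lift_redι isClosed_closure φ hφr
  change Curv2.bc k Y K ⟶ J.subscheme at σ
  change σ ≫ J.subschemeι = φ at hσ
  haveI : IsClosedImmersion (σ ≫ J.subschemeι) := hσ ▸ ‹IsClosedImmersion φ›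
  haveI : IsClosedImmersion σ := IsClosedImmersion.of_comp_isClosedImmersion σ J.subschemeι
  have h := hJ (Curv2.bc k Y K) σ inferInstance ((dim_bc k).trans hY)
  have hover : σ ≫ J.subscheme ↘ Spec (CommRingCat.of K) = Curv2.bcSnd k Y K := by
    show σ ≫ J.subschemeι ≫ Curv2.bcSnd k X K = _
    rw [← Category.assoc, hσ, hφ2]
  rw [ev_congr_over K hover, ev_congr_over K hover, Cube.pull_comp, hσ, Cube.pull_comp, hφ1, ← Cube.pull_comp,
    ← map_one (pull (Curv2.bcFst k Y K))] at h
  exact ((evO_bc k K (pull i x)).symm.trans h).trans (evO_bc k K 1)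

theorem holds : ∀ s : ℕ, Holds.{u} s
  | 0 => surface
  | s + 1 => step (holds s)

/-- **Numerical triviality on an irreducible proper scheme with an ample class.** -/
theorem numTriv_of_orth (k : Type u) [Field k] {X : Scheme.{u}} [X.Over (Spec (CommRingCat.of k))]
    [IsProper (X ↘ Spec (CommRingCat.of k))] [IrreducibleSpace X] {s : ℕ}
    (hdim : topologicalKrullDim X = ((s + 2 : ℕ) : WithBot ℕ∞)) {H : X.Modules} (hH : CohB1.IsAmple H) {x : Pic X}
    (ho : Orth k X s (clsMod hH.1) x) : NumTriv k X x := by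
  haveI := Euler.isNoetherian_of_proper (X := X) k
  let η := genericPoint X
  have hcl : closure ({η} : Set X) = Set.univ := (genericPoint_spec X).def
  let J := Scheme.IdealSheafData.vanishingIdeal (⟨closure {η}, isClosed_closure⟩ : Closeds X)
  letI : J.subscheme.Over (Spec (CommRingCat.of k)) := ⟨J.subschemeι ≫ X ↘ Spec (CommRingCat.of k)⟩
  haveI : IsProper (J.subscheme ↘ Spec (CommRingCat.of k)) :=
    inferInstanceAs (IsProper (J.subschemeι ≫ X ↘ Spec (CommRingCat.of k)))
  haveI : IsIntegral J.subscheme := Snapper.isIntegral_pt η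
  obtain ⟨n, -, hnum⟩ := top_scale k (r := s + 2) (Kleiman.isCoh_O (X := X) k) (z₀ := η)
    (by rw [hcl]; exact fun _ _ => trivial) (by rw [hcl]; exact Kleiman.dimLT_univ hdim.le)
  have hn : (0 : ℤ) < n := by
    rcases Nat.eq_zero_or_pos n with h | h
    · have := pos_const k hdim hH
      rw [hnum, h] at this
      simp at this
    · exact_mod_cast h
  have hJd : topologicalKrullDim J.subscheme = ((s + 2 : ℕ) : WithBot ℕ∞) := by
    refine (IsHomeomorph.topologicalKrullDim_eq _
      J.subschemeι.isClosedEmbedding.isEmbedding.toHomeomorph.isHomeomorph).trans ?_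
    rw [Snapper.range_pt, hcl]
    exact (IsHomeomorph.topologicalKrullDim_eq _ (Homeomorph.Set.univ X).isHomeomorph).trans hdim
  have hA : CohB1.IsAmple ((Scheme.Modules.pullback J.subschemeι).obj H) :=
    Ample.isAmple_pullback_of_isAffineHom J.subschemeι hH
  have hAcls : clsMod hA.1 = pull J.subschemeι (clsMod hH.1) := by rw [← Cube.clsMod_pullback J.subschemeι hH.1]
  have hoT : Orth k J.subscheme s (clsMod hA.1) (pull J.subschemeι x) := by
    rw [hAcls]
    refine ⟨?_, ?_⟩
    · have h := ho.orth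
      rw [hnum] at h
      refine Eq.trans (congrArg _ ?_) ((mul_eq_zero.1 h).resolve_left hn.ne')
      funext j
      refine Fin.cases ?_ (fun j => ?_) j <;> simp [J]
    · have h := ho.sq
      rw [hnum, mul_left_comm] at h
      refine le_of_le_of_eq ((mul_nonneg_iff_of_pos_left hn).1 h) ?_
      congr 2
      funext j
      refine Fin.cases ?_ (fun j => ?_) j
      · simp [J]
      · refine Fin.cases ?_ (fun j => ?_) j <;> simp [J]
  intro Y i _ hYi hY
  haveI := hYi
  obtain ⟨σ, hσ⟩ := ProperOver.exists_lift_redι (isClosed_closure (s := ({η} : Set X))) i (by rw [hcl]; exact fun _ _ => trivial)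
  change Y ⟶ J.subscheme at σ
  change σ ≫ J.subschemeι = i at hσ
  haveI : IsClosedImmersion (σ ≫ J.subschemeι) := hσ ▸ ‹IsClosedImmersion i›
  haveI : IsClosedImmersion σ := IsClosedImmersion.of_comp_isClosedImmersion σ J.subschemeι
  have h := holds s k J.subscheme hJd _ hA _ hoT Y σ hYi hY
  have hover : σ ≫ J.subscheme ↘ Spec (CommRingCat.of k) = i ≫ X ↘ Spec (CommRingCat.of k) := by
    show σ ≫ J.subschemeι ≫ _ = _
    rw [← Category.assoc, hσ]
  rwa [ev_congr_over k hover, ev_congr_over k hover, Cube.pull_comp, hσ] at h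

/-- The numerical condition in terms of modules. -/
theorem numTriv_iff (k : Type u) [Field k] {X : Scheme.{u}} [X.Over (Spec (CommRingCat.of k))]
    [IsProper (X ↘ Spec (CommRingCat.of k))] {L : X.Modules} (hL : PicF.IsInvertible L) :
    Pic13.IsNumEquivZero k X L ↔ NumTriv k X (clsMod hL) := by
  haveI := Euler.isNoetherian_of_proper (X := X) k
  refine forall_congr' fun Y => forall_congr' fun i => forall_congr' fun _ => imp_congr_right fun _ =>
    forall_congr' fun hY => ?_
  letI : Y.Over (Spec (CommRingCat.of k)) := ⟨i ≫ X ↘ Spec (CommRingCat.of k)⟩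
  haveI : IsProper (Y ↘ Spec (CommRingCat.of k)) := inferInstanceAs (IsProper (i ≫ X ↘ Spec (CommRingCat.of k)))
  have hx : HasCls L (clsMod hL) := hasCls_clsMod hL
  rw [FGAInt26.curveDeg_eq k i hY hx, FGAInt26.ev_push k i rfl hx,
    FGAInt26.ev_push k i rfl (Cube.hasCls_structureModule X),
    ← evO k (hx.pullback i), ← evO k ((Cube.hasCls_structureModule X).pullback i), map_one, sub_eq_zero]

end GrothLib.NumTriv12
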