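import Mathlib.FieldTheory.RatFunc.Basic
import Mathlib.RingTheory.PolynomialAlgebra
import Mathlib.RingTheory.Flat.Basic
import Mathlib.RingTheory.Ideal.GoingDown
import Mathlib.RingTheory.Ideal.KrullsHeightTheorem
import Mathlib.RingTheory.FiniteType
import Mathlib.RingTheory.FinitePresentation
import Mathlib.RingTheory.RingHom.FiniteType
import Mathlib.RingTheory.AlgebraicIndependent.Transcendental
import Mathlib.RingTheory.Flat.FaithfullyFlat.Basic

/-!
# The generic member of a pencil over `k(t)`: commutative algebra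
-/

universe u

set_option autoImplicit false
set_option linter.all false

open TensorProduct Polynomial

noncomputable section

namespace GrothLib.NumTriv12

variable (k : Type u) [Field k] (A : Type u) [CommRing A] [Algebra k A]

local macro "Rt" : term => `(A ⊗[k] (RatFunc k))

/-- The parameter. -/
def tt : A ⊗[k] (RatFunc k) := 1 ⊗ₜ algebraMap k[X] (RatFunc k) X

/-- Polynomials inside the tensor product with the rational functions. -/
def iota : A[X] →ₐ[k] A ⊗[k] (RatFunc k) :=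
  (Algebra.TensorProduct.map (AlgHom.id k A) (IsScalarTower.toAlgHom k k[X] (RatFunc k))).comp
    (polyEquivTensor k A).toAlgHom

theorem iota_injective : Function.Injective (iota k A) :=
  (Module.Flat.lTensor_preserves_injective_linearMap (M := A)
    (IsScalarTower.toAlgHom k k[X] (RatFunc k)).toLinearMap
    (IsFractionRing.injective k[X] (RatFunc k))).comp (polyEquivTensor k A).injective

theorem iota_C (a : A) : iota k A (C a) = a ⊗ₜ 1 := by
  simp [iota, ← monomial_zero_left]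

theorem iota_X : iota k A X = tt k A := by
  simp [iota, tt, X, -monomial_one_one_eq_X]

/-- Clearing denominators. -/
theorem exists_clear (r : A ⊗[k] (RatFunc k)) :
    ∃ g : k[X], g ≠ 0 ∧ ∃ w, iota k A w = (1 ⊗ₜ algebraMap k[X] (RatFunc k) g) * r := by
  induction r with
  | zero => exact ⟨1, one_ne_zero, 0, by simp⟩
  | tmul a y =>
    obtain ⟨p, q, hq, rfl⟩ := IsFractionRing.div_surjective (A := k[X]) y
    refine ⟨q, nonZeroDivisors.ne_zero hq, (polyEquivTensor k A).symm (a ⊗ₜ p), ?_⟩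
    simp only [iota, AlgHom.comp_apply, AlgEquiv.coe_toAlgHom, AlgEquiv.apply_symm_apply,
      Algebra.TensorProduct.map_tmul, AlgHom.id_apply, Algebra.TensorProduct.tmul_mul_tmul, one_mul,
      IsScalarTower.coe_toAlgHom']
    rw [mul_div_cancel₀]
    exact (map_ne_zero_iff _ (IsFractionRing.injective k[X] (RatFunc k))).2 (nonZeroDivisors.ne_zero hq)
  | add r₁ r₂ h₁ h₂ =>
    obtain ⟨g₁, hg₁, w₁, hw₁⟩ := h₁
    obtain ⟨g₂, hg₂, w₂, hw₂⟩ := h₂
    have hp : ∀ g : k[X], ∃ w, iota k A w = (1 : A) ⊗ₜ algebraMap k[X] (RatFunc k) g := fun g =>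
      ⟨(polyEquivTensor k A).symm (1 ⊗ₜ g), by simp only [iota, AlgHom.comp_apply, AlgEquiv.coe_toAlgHom, AlgEquiv.apply_symm_apply, Algebra.TensorProduct.map_tmul, AlgHom.id_apply, IsScalarTower.coe_toAlgHom']⟩
    obtain ⟨u₁, hu₁⟩ := hp g₂
    obtain ⟨u₂, hu₂⟩ := hp g₁
    refine ⟨g₁ * g₂, mul_ne_zero hg₁ hg₂, u₁ * w₁ + u₂ * w₂, ?_⟩
    rw [map_add, map_mul, map_mul, hu₁, hu₂, hw₁, hw₂, map_mul,
      ← one_mul (1 : A), ← Algebra.TensorProduct.tmul_mul_tmul, one_mul]
    ring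

theorem isUnit_den {g : k[X]} (hg : g ≠ 0) :
    IsUnit ((1 : A) ⊗ₜ[k] algebraMap k[X] (RatFunc k) g) :=
  (IsUnit.mk0 _ ((map_ne_zero_iff _ (IsFractionRing.injective k[X] (RatFunc k))).2 hg)).map
    (Algebra.TensorProduct.includeRight : RatFunc k →ₐ[k] A ⊗[k] (RatFunc k))

theorem isDomain [IsDomain A] : IsDomain (A ⊗[k] (RatFunc k)) := by
  haveI : Nontrivial (A ⊗[k] (RatFunc k)) := (iota_injective k A).nontrivial
  haveI : NoZeroDivisors (A ⊗[k] (RatFunc k)) := ⟨fun {r s} h => by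
    obtain ⟨g, hg, w, hw⟩ := exists_clear k A r
    obtain ⟨g', hg', w', hw'⟩ := exists_clear k A s
    have h0 : iota k A (w * w') = 0 := by
      rw [map_mul, hw, hw', mul_mul_mul_comm, h, mul_zero]
    rw [← map_zero (iota k A)] at h0
    rcases mul_eq_zero.1 (iota_injective k A h0) with h1 | h1
    · left
      rw [h1, map_zero] at hw
      exact (isUnit_den k A hg).mul_right_eq_zero.1 hw.symm
    · right
      rw [h1, map_zero] at hw'
      exact (isUnit_den k A hg').mul_right_eq_zero.1 hw'.symm⟩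
  exact NoZeroDivisors.to_isDomain _

theorem isNoetherianRing [Algebra.FiniteType k A] : IsNoetherianRing (A ⊗[k] (RatFunc k)) := by
  haveI : Algebra.FiniteType (RatFunc k) ((RatFunc k) ⊗[k] A) := inferInstance
  haveI : IsNoetherianRing ((RatFunc k) ⊗[k] A) := Algebra.FiniteType.isNoetherianRing (RatFunc k) _
  exact isNoetherianRing_of_ringEquiv _ (Algebra.TensorProduct.comm k (RatFunc k) A).toRingEquiv

variable {k A}

section Eval

variable {L : Type u} [Field L] [Algebra k L] (ε : A →ₐ[k] L) {f : L} (hf : Transcendental k f)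

/-- Rational functions evaluated at a transcendental element. -/
def evalT : RatFunc k →ₐ[k] L :=
  IsFractionRing.liftAlgHom (g := Polynomial.aeval f) (transcendental_iff_injective.1 hf)

/-- The point of the tensor product with values in `L`. -/
def point : A ⊗[k] (RatFunc k) →ₐ[k] L :=
  Algebra.TensorProduct.lift ε (evalT hf) fun _ _ => mul_comm _ _

theorem point_tmul_one (a : A) : point ε hf (a ⊗ₜ 1) = ε a := by
  refine (Algebra.TensorProduct.lift_tmul ε (evalT hf) (fun _ _ => mul_comm _ _) a 1).trans ?_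
  rw [map_one, mul_one]

theorem evalT_poly (g : k[X]) : evalT hf (algebraMap k[X] (RatFunc k) g) = Polynomial.aeval f g := by
  simp [evalT, IsFractionRing.liftAlgHom_apply]

theorem point_tt : point ε hf (tt k A) = f := by
  refine (Algebra.TensorProduct.lift_tmul ε (evalT hf) (fun _ _ => mul_comm _ _) 1 _).trans ?_
  rw [map_one, one_mul, evalT_poly, Polynomial.aeval_X]

end Eval

/-- The equation of the generic member. -/
def tau (k : Type u) [Field k] {A : Type u} [CommRing A] [Algebra k A] (u v : A) : A ⊗[k] (RatFunc k) :=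
  u ⊗ₜ 1 + (v ⊗ₜ 1) * tt k A

theorem tau_ne_zero {u v : A} (hv : v ≠ 0) : tau k u v ≠ 0 := by
  have e : tau k u v = iota k A (C u + C v * X) := by
    rw [tau, map_add, map_mul, iota_C, iota_C, iota_X]
  rw [e, Ne, ← map_zero (iota k A)]
  intro h
  have h2 := congrArg (fun p : A[X] => p.coeff 1) (iota_injective k A h)
  simp at h2
  exact hv h2

/-- Modulo the equation, every element is a constant up to units and powers of `v`. -/
theorem exists_reduce (u v : A) (r : A ⊗[k] (RatFunc k)) :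
    ∃ g : k[X], g ≠ 0 ∧ ∃ (n : ℕ) (a : A),
      (1 ⊗ₜ algebraMap k[X] (RatFunc k) g) * (v ⊗ₜ 1) ^ n * r - a ⊗ₜ 1 ∈ Ideal.span {tau k u v} := by
  obtain ⟨g, hg, w, hw⟩ := exists_clear k A r
  refine ⟨g, hg, ?_⟩
  let π := Ideal.Quotient.mk (Ideal.span {tau k u v})
  suffices h : ∀ w : A[X], ∃ (n : ℕ) (a : A), π (v ⊗ₜ 1) ^ n * π (iota k A w) = π (a ⊗ₜ 1) by
    obtain ⟨n, a, ha⟩ := h w
    refine ⟨n, a, Ideal.Quotient.eq.1 ?_⟩
    change π _ = π _
    rw [← ha, hw, map_mul, map_mul, map_pow, map_mul]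
    ring
  have hτ : π (v ⊗ₜ 1) * π (tt k A) = - π (u ⊗ₜ 1) := by
    rw [eq_neg_iff_add_eq_zero, ← map_mul, ← map_add, Ideal.Quotient.eq_zero_iff_mem, add_comm]
    exact Ideal.mem_span_singleton_self _
  have hc : ∀ a b : A, π (a ⊗ₜ 1) * π (b ⊗ₜ 1) = π ((a * b) ⊗ₜ 1) := fun a b => by
    rw [← map_mul, Algebra.TensorProduct.tmul_mul_tmul, one_mul]
  have hpw : ∀ (a : A) (n : ℕ), π (a ⊗ₜ 1) ^ n = π ((a ^ n) ⊗ₜ 1) := fun a n => by
    rw [← map_pow, Algebra.TensorProduct.tmul_pow, one_pow]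
  intro w
  induction w using Polynomial.induction_on' with
  | add p q hp hq =>
    obtain ⟨n₁, a₁, h₁⟩ := hp
    obtain ⟨n₂, a₂, h₂⟩ := hq
    refine ⟨n₁ + n₂, v ^ n₂ * a₁ + v ^ n₁ * a₂, ?_⟩
    rw [add_tmul, map_add (iota k A), map_add π, map_add π, ← hc, ← hc, ← hpw, ← hpw, ← h₁, ← h₂]
    ring
  | monomial i c =>
    refine ⟨i, c * (-u) ^ i, ?_⟩
    rw [← C_mul_X_pow_eq_monomial, map_mul, map_pow, iota_C, iota_X, map_mul, map_pow, mul_left_comm,
      ← mul_pow, hτ, ← hc, ← hpw, neg_tmul, map_neg]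

/-- Away from `v` a prime of the generic member is determined by its contraction. -/
theorem le_of_contraction {u v : A} {Q Q' : Ideal (A ⊗[k] (RatFunc k))} [Q'.IsPrime]
    (hQ : tau k u v ∈ Q) (hQ' : tau k u v ∈ Q') (hv' : v ⊗ₜ 1 ∉ Q')
    (h : ∀ a : A, a ⊗ₜ 1 ∈ Q → a ⊗ₜ 1 ∈ Q') : Q ≤ Q' := by
  intro r hr
  obtain ⟨g, hg, n, a, ha⟩ := exists_reduce u v r
  have h1 : a ⊗ₜ 1 ∈ Q := by
    have := Q.sub_mem (Q.mul_mem_left ((1 ⊗ₜ algebraMap k[X] (RatFunc k) g) * (v ⊗ₜ 1) ^ n) hr)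
      ((Ideal.span_singleton_le_iff_mem _).2 hQ ha)
    rwa [sub_sub_cancel] at this
  have h2 := Q'.add_mem ((Ideal.span_singleton_le_iff_mem _).2 hQ' ha) (h a h1)
  rw [sub_add_cancel] at h2
  rcases Ideal.IsPrime.mem_or_mem ‹_› h2 with h3 | h3
  · rcases Ideal.IsPrime.mem_or_mem ‹_› h3 with h4 | h4
    · exact absurd (Ideal.eq_top_of_isUnit_mem _ h4 (isUnit_den k A hg)) (Ideal.IsPrime.ne_top ‹_›)
    · exact absurd (Ideal.IsPrime.mem_of_pow_mem ‹_› n h4) hv'
  · exact h3

section Main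

variable [IsDomain A] [Algebra.FiniteType k A] {L : Type u} [Field L] [Algebra k L]

/-- **The generic member is irreducible.** -/
theorem point_ker_le {u v : A} (ε : A →ₐ[k] L) (hε : Function.Injective ε) {f : L} (hf : Transcendental k f)
    (hrel : ε u + ε v * f = 0) (hv : v ≠ 0)
    (hA : ∀ P : Ideal A, P.IsPrime → u ∈ P → v ∈ P → ∃ P₁ : Ideal A, P₁.IsPrime ∧ P₁ ≠ ⊥ ∧ P₁ < P)
    (Q : Ideal (A ⊗[k] (RatFunc k))) [Q.IsPrime] (hQ : tau k u v ∈ Q) :
    RingHom.ker (point ε hf) ≤ Q := by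
  haveI := isNoetherianRing k A
  haveI := isDomain k A
  haveI : (RingHom.ker (point ε hf)).IsPrime := RingHom.ker_isPrime _
  obtain ⟨Q₀, hQ₀, hle⟩ := Ideal.exists_minimalPrimes_le
    ((Ideal.span_singleton_le_iff_mem Q).2 hQ)
  haveI : Q₀.IsPrime := hQ₀.1.1
  have hQ₀τ : tau k u v ∈ Q₀ := (Ideal.span_singleton_le_iff_mem _).1 hQ₀.1.2
  have hv₀ : v ⊗ₜ 1 ∉ Q₀ := by
    intro hv₀
    let P := Q₀.under A
    have hvP : v ∈ P := hv₀
    have huP : u ∈ P := by
      show u ⊗ₜ 1 ∈ Q₀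
      have := Q₀.sub_mem hQ₀τ (Q₀.mul_mem_right (tt k A) hv₀)
      rwa [tau, add_sub_cancel_right] at this
    obtain ⟨P₁, hP₁, hP₁0, hP₁P⟩ := hA P inferInstance huP hvP
    haveI := hP₁
    haveI : Q₀.LiesOver P := ⟨rfl⟩
    obtain ⟨Q₁, hQ₁, hQ₁p, hQ₁o⟩ := Ideal.exists_ideal_lt_liesOver_of_lt Q₀ hP₁P
    haveI := hQ₁p
    haveI : (⊥ : Ideal (A ⊗[k] (RatFunc k))).IsPrime := Ideal.isPrime_bot
    have hbot : ⊥ < Q₁ := by
      rw [bot_lt_iff_ne_bot]
      rintro rfl
      refine hP₁0 ?_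
      rw [hQ₁o.over, Ideal.under, Ideal.comap_bot_of_injective _
        (show Function.Injective (algebraMap A (A ⊗[k] (RatFunc k))) from fun a b hab => ?_)]
      refine C_injective (iota_injective k A ?_)
      rw [iota_C, iota_C]
      exact hab
    have h1 := Ideal.height_le_one_of_isPrincipal_of_mem_minimalPrimes _ Q₀ hQ₀
    have h2 := Ideal.height_strict_mono_of_isPrime hbot
    have h3 := Ideal.height_strict_mono_of_isPrime hQ₁
    rw [Ideal.height_bot] at h2
    have h4 : Q₁.height < 1 := lt_of_lt_of_le h3 h1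
    exact (ENat.lt_one_iff_eq_zero.1 h4 ▸ h2).false
  refine le_trans (le_of_contraction ?_ hQ₀τ hv₀ fun a ha => ?_) hle
  · show point ε hf _ = 0
    rw [tau, map_add, map_mul, point_tmul_one, point_tmul_one, point_tt, hrel]
  · have : a = 0 := hε (by rw [← point_tmul_one ε hf, map_zero]; exact ha)
    rw [this, zero_tmul]
    exact Q₀.zero_mem

end Main

end GrothLib.NumTriv12
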