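import Groth.Agent.Lib.NumTriv12.Main

/-!
# Numerical triviality from Euler characteristics of twists
-/

universe u

set_option autoImplicit false
set_option linter.all false
set_option backward.isDefEq.respectTransparency false
set_option maxHeartbeats 1000000

open CategoryTheory CategoryTheory.Limits AlgebraicGeometry TopologicalSpace

noncomputable section

namespace GrothLib.NumTriv12

open GrothLib.Cube (Pic clsMod pull HasCls hasCls_clsMod)
open GrothLib.HodgeIndex (rep isInv_rep cls_rep)
open GrothLib.Snapper (IsTop DimLT)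
open GrothLib.FGAInt26 (del ev del_cons)

theorem del_congr {G : Type*} [CommMonoid G] (χ χ' : G → ℤ) (h : G) {r : ℕ}
    (hh : ∀ j : ℕ, χ (h ^ j) = χ' (h ^ j)) : del χ (fun _ : Fin r => h) = del χ' (fun _ : Fin r => h) := by
  classical
  rw [← FGAInt26.sum_finset_eq_del, ← FGAInt26.sum_finset_eq_del]
  refine Finset.sum_congr rfl fun I _ => ?_
  rw [Finset.prod_const, hh]

/-- Twists with the same Euler characteristics are numerically trivial. -/
theorem numTriv_of_euler (k : Type u) [Field k] {X : Scheme.{u}} [X.Over (Spec (CommRingCat.of k))]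
    [IsProper (X ↘ Spec (CommRingCat.of k))] [IrreducibleSpace X] {H : X.Modules} (hH : CohB1.IsAmple H) {x : Pic X}
    (hv : ∀ j : ℕ, ev k (Coh.structureModule X) (x * clsMod hH.1 ^ j) = ev k (Coh.structureModule X) (clsMod hH.1 ^ j) ∧
      ev k (Coh.structureModule X) (x ^ 2 * clsMod hH.1 ^ j) = ev k (Coh.structureModule X) (clsMod hH.1 ^ j)) :
    NumTriv k X x := by
  haveI := Euler.isNoetherian_of_proper (X := X) k
  obtain ⟨r, hr⟩ := AffDom.exists_nat_ptDim (X ↘ Spec (CommRingCat.of k)) (genericPoint X)
  have hdim : topologicalKrullDim X = (r : WithBot ℕ∞) := by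
    rw [← hr]
    show _ = topologicalKrullDim (closure ({genericPoint X} : Set X))
    rw [(genericPoint_spec X).def]
    exact ((IsHomeomorph.topologicalKrullDim_eq _ (Homeomorph.Set.univ X).isHomeomorph)).symm
  set χ := ev k (Coh.structureModule X) with hχ
  have e0 : ∀ a : ℕ, del (fun w => χ (x * w)) (fun _ : Fin a => clsMod hH.1) = del χ (fun _ : Fin a => clsMod hH.1) :=
    fun a => del_congr _ _ _ fun j => (hv j).1
  match r, hdim with
  | 0, hdim =>
    intro Y i _ _ hY
    have h := i.isEmbedding.isInducing.topologicalKrullDim_le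
    rw [hY, hdim] at h
    exact absurd h (by norm_num)
  | 1, hdim =>
    intro Y i _ hYi hY
    haveI := hYi
    letI : Y.Over (Spec (CommRingCat.of k)) := ⟨i ≫ X ↘ Spec (CommRingCat.of k)⟩
    haveI : IsProper (Y ↘ Spec (CommRingCat.of k)) := inferInstanceAs (IsProper (i ≫ X ↘ Spec (CommRingCat.of k)))
    have hcl : closure ({genericPoint X} : Set X) = Set.univ := (genericPoint_spec X).def
    have hd1 : DimLT (closure ({genericPoint X} : Set X)) (1 + 1) := by rw [hcl]; exact Kleiman.dimLT_univ hdim.le
    obtain ⟨n, -, hn⟩ := top_scale k (r := 1) (Kleiman.isCoh_O (X := X) k) (z₀ := genericPoint X)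
      (by rw [hcl]; exact fun _ _ => trivial) hd1
    obtain ⟨n', -, hn'⟩ := top_scale k (r := 1) (HodgeIndex.isCoh_push_piece k i (Kleiman.isCoh_O (X := Y) k))
      (z₀ := genericPoint X) (by rw [hcl]; exact fun _ _ => trivial) hd1
    have h0 : del χ (Fin.cons x (fun _ => clsMod hH.1) : Fin 1 → Pic X) = 0 := by
      rw [del_cons, e0 0, sub_self]
    have hn0 : (n : ℤ) ≠ 0 := by
      intro h
      have := pos_const k hdim hH
      rw [hn, h] at this
      simp at this
    rw [hn] at h0
    have h1 := hn' (Fin.cons x (fun _ => clsMod hH.1) : Fin 1 → Pic X)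
    rw [(mul_eq_zero.1 h0).resolve_left hn0, mul_zero, del_cons] at h1
    simp [del] at h1
    have hx : HasCls (rep x) x := ⟨isInv_rep x, cls_rep x⟩
    rw [FGAInt26.ev_push k i rfl hx, FGAInt26.ev_push k i rfl (Cube.hasCls_structureModule X),
      ← evO k (hx.pullback i), ← evO k ((Cube.hasCls_structureModule X).pullback i), map_one] at h1
    omega
  | s + 2, hdim =>
    refine numTriv_of_orth k hdim hH ⟨?_, ?_⟩
    · rw [del_cons, e0, sub_self]
    · have e2 : del (fun w => χ (x * (x * w))) (fun _ : Fin s => clsMod hH.1) = del χ (fun _ : Fin s => clsMod hH.1) :=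
        del_congr _ _ _ fun j => by rw [← mul_assoc, ← pow_two]; exact (hv j).2
      rw [del_cons, del_cons, del_cons]; change 0 ≤ _ * ((del χ _ - del (fun w => χ (x * w)) _) - (del (fun w => χ (x * w)) _ - del (fun w => χ (x * (x * w))) _)); rw [e0, e2]; simp

end GrothLib.NumTriv12
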