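import Groth.Prelude.Def_CurvBase
import Groth.Agent.Lib.Ample.CocPullback
import Groth.Agent.Lib.Ample.Calculus
import Groth.Agent.Lib.Hilb20.FieldExt
import Groth.Agent.Lib.NumTriv12.Alg

/-!
# The generic member of a pencil: geometry over `k(t)`
-/

universe u

set_option autoImplicit false
set_option linter.all false
set_option backward.isDefEq.respectTransparency false
set_option maxHeartbeats 800000

open CategoryTheory CategoryTheory.Limits AlgebraicGeometry TopologicalSpace TensorProduct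

noncomputable section

namespace GrothLib.NumTriv12

open GrothLib.Ample (Cocycle)

variable (k : Type u) [Field k] {X : Scheme.{u}} [X.Over (Spec (CommRingCat.of k))]

/-- The structure map on the sections over an affine open. -/
def strHom {W : X.Opens} (hW : IsAffineOpen W) : CommRingCat.of k ⟶ Γ(X, W) :=
  Spec.preimage (hW.fromSpec ≫ X ↘ Spec (CommRingCat.of k))

theorem strHom_spec {W : X.Opens} (hW : IsAffineOpen W) :
    Spec.map (strHom k hW) = hW.fromSpec ≫ X ↘ Spec (CommRingCat.of k) :=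
  Spec.map_preimage _

theorem fromSpec_appLE {W V : X.Opens} (hW : IsAffineOpen W) (h : W ≤ V) {R : CommRingCat.{u}}
    (g : Γ(X, W) ⟶ R) (e : (⊤ : (Spec R).Opens) ≤ (Spec.map g ≫ hW.fromSpec) ⁻¹ᵁ V) :
    (Spec.map g ≫ hW.fromSpec).appLE V ⊤ e ≫ (Scheme.ΓSpecIso R).hom =
      X.presheaf.map (homOfLE h).op ≫ g := by
  have e1 : (⊤ : (Spec Γ(X, W)).Opens) ≤ hW.fromSpec ⁻¹ᵁ V := fun x _ => h (by
    rw [← SetLike.mem_coe, ← hW.range_fromSpec]; exact ⟨x, rfl⟩)
  rw [← Scheme.Hom.appLE_comp_appLE (Spec.map g) hW.fromSpec V ⊤ ⊤ e1 le_top, Category.assoc]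
  have e2 : (Spec.map g).appLE ⊤ ⊤ le_top = (Spec.map g).appTop := Scheme.Hom.appLE_eq_app _
  rw [e2, Scheme.ΓSpecIso_naturality]
  have e3 : hW.fromSpec.appLE V ⊤ e1 = X.presheaf.map (homOfLE h).op ≫ (Scheme.ΓSpecIso Γ(X, W)).inv := by
    rw [Scheme.Hom.appLE, hW.fromSpec_app_of_le V h]
    simp only [Category.assoc, ← Functor.map_comp]
    congr 1
  rw [e3]
  simp

/-- A chart of the base change to the rational functions. -/
def chart {W : X.Opens} (hW : IsAffineOpen W) :
    letI : Algebra k Γ(X, W) := (strHom k hW).hom.toAlgebra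
    Spec (CommRingCat.of (Γ(X, W) ⊗[k] RatFunc k)) ⟶ Curv2.bc k X (RatFunc k) :=
  letI : Algebra k Γ(X, W) := (strHom k hW).hom.toAlgebra
  (pullbackSpecIso k Γ(X, W) (RatFunc k)).inv ≫ pullback.map _ _ _ _ hW.fromSpec (𝟙 _) (𝟙 _)
    (by rw [Category.comp_id]; exact strHom_spec k hW) (by simp)

variable {W : X.Opens} (hW : IsAffineOpen W)

instance : IsOpenImmersion (chart k hW) := by
  letI : Algebra k Γ(X, W) := (strHom k hW).hom.toAlgebra
  unfold chart
  infer_instance

theorem range_chart : Set.range (chart k hW) = (Curv2.bcFst k X (RatFunc k)) ⁻¹' (W : Set X) := by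
  letI : Algebra k Γ(X, W) := (strHom k hW).hom.toAlgebra
  unfold chart
  rw [Scheme.Hom.comp_base, TopCat.coe_comp, Set.range_comp,
    Set.range_eq_univ.2 (pullbackSpecIso k Γ(X, W) (RatFunc k)).inv.surjective, Set.image_univ,
    Scheme.Pullback.range_map]
  simp only [Scheme.Hom.id_base, TopCat.coe_id, Set.range_id, Set.preimage_univ, Set.inter_univ, hW.range_fromSpec]
  exact congrArg (fun s => (Curv2.bcFst k X (RatFunc k)) ⁻¹' s) hW.range_fromSpec

theorem chart_fst : letI : Algebra k Γ(X, W) := (strHom k hW).hom.toAlgebra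
    chart k hW ≫ Curv2.bcFst k X (RatFunc k) =
      Spec.map (CommRingCat.ofHom (Algebra.TensorProduct.includeLeftRingHom :
        Γ(X, W) →+* Γ(X, W) ⊗[k] RatFunc k)) ≫ hW.fromSpec := by
  letI : Algebra k Γ(X, W) := (strHom k hW).hom.toAlgebra
  unfold chart Curv2.bcFst
  rw [Category.assoc, pullback.map, pullback.lift_fst, pullbackSpecIso_inv_fst_assoc]

theorem chart_snd : letI : Algebra k Γ(X, W) := (strHom k hW).hom.toAlgebra
    chart k hW ≫ Curv2.bcSnd k X (RatFunc k) =
      Spec.map (CommRingCat.ofHom (Algebra.TensorProduct.includeRight :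
        RatFunc k →ₐ[k] Γ(X, W) ⊗[k] RatFunc k).toRingHom) := by
  letI : Algebra k Γ(X, W) := (strHom k hW).hom.toAlgebra
  unfold chart Curv2.bcSnd
  rw [Category.assoc, pullback.map, pullback.lift_snd, Category.comp_id, pullbackSpecIso_inv_snd]
  rfl

theorem exists_chart (z : ↥(Curv2.bc k X (RatFunc k))) {O : X.Opens} (hO : Curv2.bcFst k X (RatFunc k) z ∈ O) :
    ∃ (W : X.Opens) (hW : IsAffineOpen W), W ≤ O ∧ Curv2.bcFst k X (RatFunc k) z ∈ W ∧ z ∈ Set.range (chart k hW) := by
  obtain ⟨_, ⟨W, hW, rfl⟩, hzW, hWO⟩ := X.isBasis_affineOpens.exists_subset_of_mem_open hO O.2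
  exact ⟨W, hW, hWO, hzW, by rw [range_chart]; exact hzW⟩

section Points

variable [IsIntegral X]

/-- The field structure map of the function field. -/
def ffHom : k →+* X.functionField :=
  (Spec.preimage (X.fromSpecStalk (genericPoint X) ≫ X ↘ Spec (CommRingCat.of k))).hom

variable {L : Type u} [Field L] [Algebra k L] (j : X.functionField →+* L)
  (hj : j.comp (ffHom k) = algebraMap k L) {f : L} (hf : Transcendental k f)

/-- The point of the base change given by a point over the generic point and a transcendental value. -/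
def sigma : Spec (CommRingCat.of L) ⟶ Curv2.bc k X (RatFunc k) :=
  pullback.lift (Spec.map (CommRingCat.ofHom j) ≫ X.fromSpecStalk (genericPoint X))
    (Spec.map (CommRingCat.ofHom (evalT hf).toRingHom)) (by
      rw [Category.assoc, ← Spec.map_preimage (X.fromSpecStalk (genericPoint X) ≫ X ↘ Spec (CommRingCat.of k)),
        ← Spec.map_comp, ← Spec.map_comp]
      congr 1
      ext a
      exact (RingHom.congr_fun hj a).trans ((evalT hf).commutes a).symm)

/-- The point. -/
def pt : ↥(Curv2.bc k X (RatFunc k)) := sigma k j hj hf (IsLocalRing.closedPoint L)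

variable [hne : Nonempty W]

/-- The function field valued point of an affine chart. -/
def epsW : letI : Algebra k Γ(X, W) := (strHom k hW).hom.toAlgebra
    Γ(X, W) →ₐ[k] L :=
  letI : Algebra k Γ(X, W) := (strHom k hW).hom.toAlgebra
  { j.comp (X.germToFunctionField W).hom with
    commutes' := fun a => by
      rw [← hj]
      show j (X.germToFunctionField W ((strHom k hW) a)) = j (ffHom k a)
      congr 1
      have e : strHom k hW ≫ X.germToFunctionField W =
          Spec.preimage (X.fromSpecStalk (genericPoint X) ≫ X ↘ Spec (CommRingCat.of k)) := by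
        apply Spec.map_injective
        rw [Spec.map_comp, Spec.map_preimage, strHom_spec, ← Category.assoc]
        congr 1
        exact hW.fromSpecStalk_eq_fromSpecStalk _
      exact ConcreteCategory.congr_hom e a }

theorem epsW_injective : letI : Algebra k Γ(X, W) := (strHom k hW).hom.toAlgebra
    Function.Injective (epsW k hW j hj) := by
  letI : Algebra k Γ(X, W) := (strHom k hW).hom.toAlgebra
  exact j.injective.comp (X.germToFunctionField_injective W)

theorem sigma_eq : letI : Algebra k Γ(X, W) := (strHom k hW).hom.toAlgebra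
    sigma k j hj hf = Spec.map (CommRingCat.ofHom (point (epsW k hW j hj) hf).toRingHom) ≫ chart k hW := by
  letI : Algebra k Γ(X, W) := (strHom k hW).hom.toAlgebra
  apply pullback.hom_ext
  · rw [sigma, pullback.lift_fst, Category.assoc, chart_fst, ← Spec.map_comp_assoc,
      ← hW.fromSpecStalk_eq_fromSpecStalk (x := genericPoint X) (hxU := ((genericPoint_spec X).mem_open_set_iff W.2).mpr
        (hne.elim fun x => ⟨x.1, trivial, x.2⟩)), IsAffineOpen.fromSpecStalk, ← Spec.map_comp_assoc]
    congr 2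
    ext a
    exact (point_tmul_one (epsW k hW j hj) hf a).symm
  · rw [sigma, pullback.lift_snd, Category.assoc, chart_snd, ← Spec.map_comp]
    congr 1
    ext y
    show evalT hf y = point (epsW k hW j hj) hf (1 ⊗ₜ y)
    simp [point]

theorem exists_pt_chart : letI : Algebra k Γ(X, W) := (strHom k hW).hom.toAlgebra
    ∃ y : PrimeSpectrum (Γ(X, W) ⊗[k] RatFunc k), chart k hW y = pt k j hj hf ∧
      y.asIdeal = RingHom.ker (point (epsW k hW j hj) hf) := by
  letI : Algebra k Γ(X, W) := (strHom k hW).hom.toAlgebra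
  refine ⟨Spec.map (CommRingCat.ofHom (point (epsW k hW j hj) hf).toRingHom) (IsLocalRing.closedPoint L), ?_, ?_⟩
  · rw [pt, sigma_eq k hW j hj hf]; rfl
  · show Ideal.comap _ (IsLocalRing.maximalIdeal L) = _
    rw [IsLocalRing.maximalIdeal_eq_bot]
    rfl

end Points

variable [IsIntegral X]

/-- The generic point: the rational functions with coefficients in the function field. -/
theorem transcendental_X : letI : Algebra k X.functionField := (ffHom k).toAlgebra
    Transcendental k (RatFunc.X : RatFunc X.functionField) := by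
  letI : Algebra k X.functionField := (ffHom k).toAlgebra
  rw [← RatFunc.algebraMap_X, transcendental_algebraMap_iff (IsFractionRing.injective _ _)]
  rw [transcendental_iff_injective]
  intro p q h
  have e : ∀ r : Polynomial k, Polynomial.aeval (Polynomial.X : Polynomial X.functionField) r =
      r.map (algebraMap k X.functionField) := fun r => by
    induction r using Polynomial.induction_on' with
    | add a b ha hb => rw [map_add, ha, hb, Polynomial.map_add]
    | monomial i c => rw [Polynomial.aeval_monomial, Polynomial.map_monomial, ← Polynomial.C_mul_X_pow_eq_monomial]; rfl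
  rw [e, e] at h
  exact Polynomial.map_injective _ (algebraMap k X.functionField).injective h

instance isIntegral_bc : IsIntegral (Curv2.bc k X (RatFunc k)) := by
  letI : Algebra k X.functionField := (ffHom k).toAlgebra
  let j : X.functionField →+* RatFunc X.functionField := algebraMap _ _
  have hj : j.comp (ffHom k) = algebraMap k (RatFunc X.functionField) :=
    (IsScalarTower.algebraMap_eq k X.functionField (RatFunc X.functionField)).symm
  let ξ := pt k j hj (transcendental_X k)
  haveI : Nonempty ↥(Curv2.bc k X (RatFunc k)) := ⟨ξ⟩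
  have hdom : ∀ (W : X.Opens) (hW : IsAffineOpen W) (hne : Nonempty W),
      IsIntegral (Spec (CommRingCat.of (letI : Algebra k Γ(X, W) := (strHom k hW).hom.toAlgebra
        Γ(X, W) ⊗[k] RatFunc k))) := fun W hW hne => by
    letI : Algebra k Γ(X, W) := (strHom k hW).hom.toAlgebra
    haveI := isDomain k Γ(X, W)
    infer_instance
  haveI : IsReduced (Curv2.bc k X (RatFunc k)) := by
    haveI : ∀ z : ↥(Curv2.bc k X (RatFunc k)), _root_.IsReduced ((Curv2.bc k X (RatFunc k)).presheaf.stalk z) := by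
      intro z
      obtain ⟨W, hW, -, hzW, y, rfl⟩ := exists_chart k z (O := ⊤) trivial
      haveI := hdom W hW ⟨⟨_, hzW⟩⟩
      exact isReduced_of_injective ((chart k hW).stalkMap y).hom
        (asIso ((chart k hW).stalkMap y)).commRingCatIsoToRingEquiv.injective
    exact isReduced_of_isReduced_stalk _
  haveI : IrreducibleSpace ↥(Curv2.bc k X (RatFunc k)) := by
    refine @IrreducibleSpace.mk _ _ ⟨?_⟩ inferInstance
    rintro O₁ O₂ hO₁ hO₂ ⟨z₁, -, hz₁⟩ ⟨z₂, -, hz₂⟩
    obtain ⟨W₁, hW₁, -, hzW₁, y₁, rfl⟩ := exists_chart k z₁ (O := ⊤) trivial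
    obtain ⟨W₂, hW₂, -, hzW₂, y₂, rfl⟩ := exists_chart k z₂ (O := ⊤) trivial
    haveI : Nonempty W₁ := ⟨⟨_, hzW₁⟩⟩
    haveI : Nonempty W₂ := ⟨⟨_, hzW₂⟩⟩
    haveI := hdom W₁ hW₁ inferInstance
    haveI := hdom W₂ hW₂ inferInstance
    obtain ⟨a₁, ha₁, -⟩ := exists_pt_chart k hW₁ j hj (transcendental_X k)
    obtain ⟨a₂, ha₂, -⟩ := exists_pt_chart k hW₂ j hj (transcendental_X k)
    obtain ⟨b, hb₁, hb₂⟩ := nonempty_preirreducible_inter
      (hO₁.preimage (chart k hW₁).continuous) ((chart k hW₂).isOpenEmbedding.isOpen_range.preimage (chart k hW₁).continuous)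
      ⟨y₁, hz₁⟩ ⟨a₁, a₂, ha₂.trans ha₁.symm⟩
    obtain ⟨b₂, hb₂'⟩ := hb₂
    obtain ⟨d, hd₁, hd₂⟩ := nonempty_preirreducible_inter
      (hO₁.preimage (chart k hW₂).continuous) (hO₂.preimage (chart k hW₂).continuous)
      ⟨b₂, by show chart k hW₂ b₂ ∈ O₁; rw [hb₂']; exact hb₁⟩ ⟨y₂, hz₂⟩
    exact ⟨chart k hW₂ d, trivial, hd₁, hd₂⟩
  exact isIntegral_of_irreducibleSpace_of_isReduced _

section Pencil

variable [IsProper (X ↘ Spec (CommRingCat.of k))] (c : Cocycle X) {m : ℕ}

/-- The parameter as a global function. -/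
def tGlob : Γ(Curv2.bc k X (RatFunc k), ⊤) :=
  (Curv2.bcSnd k X (RatFunc k)).appTop ((Scheme.ΓSpecIso (CommRingCat.of (RatFunc k))).inv
    (algebraMap (Polynomial k) (RatFunc k) Polynomial.X))

/-- The generic member of a pencil of sections. -/
def pencil (U V : c.sect m ⊤) : (c.comap (Curv2.bcFst k X (RatFunc k))).sect m ⊤ :=
  c.pullSect (Curv2.bcFst k X (RatFunc k)) (le_top : (⊤ : (Curv2.bc k X (RatFunc k)).Opens) ≤ _) U +
    tGlob k (X := X) • c.pullSect (Curv2.bcFst k X (RatFunc k)) (le_top : (⊤ : (Curv2.bc k X (RatFunc k)).Opens) ≤ _) V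

variable (U V : c.sect m ⊤) {i : c.ι} (hWi : W ≤ c.D i)

/-- The restriction of a section to a chart. -/
def rW (a : c.sect m ⊤) : Γ(X, W) := X.presheaf.map (homOfLE (le_inf le_top hWi : W ≤ ⊤ ⊓ c.D i)).op (a.1 i)

omit [IsIntegral X] [IsProper (X ↘ Spec (CommRingCat.of k))] in
theorem mem_locus_chart : letI : Algebra k Γ(X, W) := (strHom k hW).hom.toAlgebra
    ∀ y : PrimeSpectrum (Γ(X, W) ⊗[k] RatFunc k),
      chart k hW y ∈ (c.comap (Curv2.bcFst k X (RatFunc k))).locus (pencil k c U V) ↔
        tau k (rW c hWi U) (rW c hWi V) ∉ y.asIdeal := by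
  letI : Algebra k Γ(X, W) := (strHom k hW).hom.toAlgebra
  intro y
  let p := Curv2.bcFst k X (RatFunc k)
  let O := (⊤ : (Curv2.bc k X (RatFunc k)).Opens) ⊓ p ⁻¹ᵁ c.D i
  have hmem : ∀ z, chart k hW z ∈ p ⁻¹ᵁ c.D i := fun z => hWi (by
    have : chart k hW z ∈ p ⁻¹' (W : Set X) := by rw [← range_chart k hW]; exact ⟨z, rfl⟩
    exact this)
  have hO : (⊤ : (Spec (CommRingCat.of (Γ(X, W) ⊗[k] RatFunc k))).Opens) ≤ chart k hW ⁻¹ᵁ O :=
    fun z _ => ⟨trivial, hmem z⟩
  let Φ := (chart k hW).appLE O ⊤ hO ≫ (Scheme.ΓSpecIso _).hom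
  have hbasic : ∀ s, chart k hW y ∈ (Curv2.bc k X (RatFunc k)).basicOpen s ↔ Φ s ∉ y.asIdeal := fun s => by
    have e := Scheme.basicOpen_appLE (chart k hW) ⊤ O hO s
    have : chart k hW y ∈ (Curv2.bc k X (RatFunc k)).basicOpen s ↔
        y ∈ (Spec (CommRingCat.of (Γ(X, W) ⊗[k] RatFunc k))).basicOpen ((chart k hW).appLE O ⊤ hO s) := by
      rw [e]
      exact ⟨fun h => ⟨trivial, h⟩, fun h => h.2⟩
    rw [this, basicOpen_eq_of_affine']
    rfl
  have hpull : ∀ a : c.sect m ⊤, Φ ((c.pullSect p (le_top : (⊤ : (Curv2.bc k X (RatFunc k)).Opens) ≤ p ⁻¹ᵁ ⊤) a).1 i) =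
      rW c hWi a ⊗ₜ 1 := fun a => by
    have h1 := congrArg (fun F => F.hom (a.1 i)) (show p.appLE (⊤ ⊓ c.D i) O (inf_le_inf_right _ le_top) ≫ Φ =
        X.presheaf.map (homOfLE (le_inf le_top hWi : W ≤ ⊤ ⊓ c.D i)).op ≫
          CommRingCat.ofHom (Algebra.TensorProduct.includeLeftRingHom : Γ(X, W) →+* Γ(X, W) ⊗[k] RatFunc k) by
      have h0 := fromSpec_appLE hW (le_inf le_top hWi : W ≤ ⊤ ⊓ c.D i)
        (CommRingCat.ofHom (Algebra.TensorProduct.includeLeftRingHom : Γ(X, W) →+* Γ(X, W) ⊗[k] RatFunc k))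
        (by rw [← chart_fst k hW]; exact fun z _ => ⟨trivial, hmem z⟩)
      rw [← h0]
      simp only [Φ, ← Category.assoc, Scheme.Hom.appLE_comp_appLE]
      congr 2
      exact chart_fst k hW)
    exact h1
  have ht : Φ ((Curv2.bc k X (RatFunc k)).presheaf.map (homOfLE le_top : O ⟶ ⊤).op (tGlob k (X := X))) =
      tt k Γ(X, W) := by
    have h1 := congrArg (fun F => F.hom (algebraMap (Polynomial k) (RatFunc k) Polynomial.X))
      (show (Scheme.ΓSpecIso (CommRingCat.of (RatFunc k))).inv ≫ (Curv2.bcSnd k X (RatFunc k)).appTop ≫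
          (Curv2.bc k X (RatFunc k)).presheaf.map (homOfLE le_top : O ⟶ ⊤).op ≫ Φ =
        CommRingCat.ofHom (Algebra.TensorProduct.includeRight : RatFunc k →ₐ[k] Γ(X, W) ⊗[k] RatFunc k).toRingHom by
      simp only [Φ, Scheme.Hom.map_appLE_assoc]
      rw [show (chart k hW).appLE ⊤ ⊤ le_top = (chart k hW).appTop from Scheme.Hom.appLE_eq_app _,
        ← Category.assoc (Scheme.Hom.appTop _), ← Scheme.Hom.comp_appTop, chart_snd k hW,
        Scheme.ΓSpecIso_naturality, Iso.inv_hom_id_assoc])
    exact h1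
  rw [(c.comap p).mem_locus_iff (pencil k c U V) (i := i) (hmem y), hbasic]
  have e : Φ ((pencil k c U V).1 i) = tau k (rW c hWi U) (rW c hWi V) := by
    simp only [pencil, AddSubgroup.coe_add, Pi.add_apply, GrothLib.Ample.Cocycle.smul_apply, map_add, map_mul]
    rw [hpull, hpull, tau, mul_comm _ (tt k Γ(X, W))]
    exact congrArg (fun a => _ + a * _) ht
  rw [e]

end Pencil

end GrothLib.NumTriv12
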