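import Groth.Prelude.Def_Pic13
import Groth.Agent.Lib.FGAInt26.Positive
import Groth.Agent.Lib.FGAInt26.AlgEquiv
import Groth.Agent.Lib.HodgeProper12.Basic
import Groth.Agent.Lib.Hilb20.FieldExt

/-!
# Intersection numbers on the reduced top component and under field extension
-/

universe u

set_option autoImplicit false
set_option linter.all false
set_option backward.isDefEq.respectTransparency false
set_option maxHeartbeats 1000000

open CategoryTheory CategoryTheory.Limits AlgebraicGeometry TopologicalSpace

noncomputable section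

namespace GrothLib.NumTriv12

open GrothLib.Cube (Pic clsMod pull HasCls hasCls_clsMod)
open GrothLib.HodgeIndex (rep isInv_rep cls_rep)
open GrothLib.Snapper (IsTop DimLT mult phi mixed ptMod topTerm)
open GrothLib.FGAInt26 (del ev del_cons)

theorem del_swap {G : Type*} [CommMonoid G] (χ : G → ℤ) {r : ℕ} (a b : G) (z : Fin r → G) :
    del χ (Fin.cons a (Fin.cons b z : Fin (r + 1) → G) : Fin (r + 2) → G) =
      del χ (Fin.cons b (Fin.cons a z : Fin (r + 1) → G) : Fin (r + 2) → G) := by
  simp only [del_cons, ← mul_assoc, mul_comm b a]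
  ring

theorem del_hom {G G' : Type*} [CommMonoid G] [CommMonoid G'] (f : G →* G') {χ : G → ℤ} {χ' : G' → ℤ}
    (h : ∀ w, χ' (f w) = χ w) {r : ℕ} (z : Fin r → G) : del χ' (fun i => f (z i)) = del χ z := by
  unfold del
  refine Finset.sum_congr rfl fun b _ => ?_
  rw [← h (∏ i, if b i then z i else 1), map_prod]
  congr 2
  exact Finset.prod_congr rfl fun i _ => by split_ifs <;> simp

theorem del_cons_one {G : Type*} [CommMonoid G] (χ : G → ℤ) {r : ℕ} (z : Fin r → G) :
    del χ (Fin.cons 1 z : Fin (r + 1) → G) = 0 := by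
  simp [del_cons]

theorem cons_const {G : Type*} (a : G) (r : ℕ) :
    (Fin.cons a (fun _ => a) : Fin (r + 1) → G) = fun _ => a := by
  funext i
  refine Fin.cases ?_ (fun j => ?_) i <;> simp

variable (k : Type u) [Field k]

theorem ev_congr_over {Y : Scheme.{u}} {p q : Y ⟶ Spec (CommRingCat.of k)} (e : p = q) (z : Pic Y) :
    @ev Y k _ ⟨p⟩ (Coh.structureModule Y) z = @ev Y k _ ⟨q⟩ (Coh.structureModule Y) z := by
  subst e; rfl

variable {X : Scheme.{u}} [X.Over (Spec (CommRingCat.of k))]

theorem evO {L : X.Modules} {z : Pic X} (hL : HasCls L z) :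
    ev k (Coh.structureModule X) z = Curv2.euler k X L := by
  rw [FGAInt26.ev_eq k hL]
  exact Euler.euler_of_iso k (OX.tensorUnitLeftIso L)

variable [IsProper (X ↘ Spec (CommRingCat.of k))]

theorem evO_bc (K : Type u) [Field K] [Algebra k K] (z : Pic X) :
    ev K (Coh.structureModule (Curv2.bc k X K)) (pull (Curv2.bcFst k X K) z) = ev k (Coh.structureModule X) z := by
  have hz : HasCls (rep z) z := ⟨isInv_rep z, cls_rep z⟩
  haveI : (rep z).IsQuasicoherent := (Euler.isCoh_of_isInvertible (isInv_rep z)).1
  rw [evO K (hz.pullback (Curv2.bcFst k X K)), evO k hz]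
  exact Hilb20.euler_bc k K (rep z)

theorem del_inv_cons {r : ℕ} {F : X.Modules} (hF : Coh.IsCoh F) (h : DimLT (CohB1.support F) (r + 2)) (a : Pic X)
    (z : Fin r → Pic X) : del (ev k F) (Fin.cons a⁻¹ z : Fin (r + 1) → Pic X) =
      - del (ev k F) (Fin.cons a z : Fin (r + 1) → Pic X) := by
  have := FGAInt26.del_mul k hF h a a⁻¹ z
  rw [mul_inv_cancel, del_cons_one] at this
  omega

/-- Numbers of a sheaf on an irreducible closed set are multiples of those of the reduced structure. -/
theorem top_scale {r : ℕ} {F : X.Modules} (hF : Coh.IsCoh F) {z₀ : X}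
    (hsupp : CohB1.support F ⊆ closure {z₀}) (hd : DimLT (closure ({z₀} : Set X)) (r + 1)) :
    letI : (Scheme.IdealSheafData.vanishingIdeal (⟨closure {z₀}, isClosed_closure⟩ : Closeds X)).subscheme.Over
      (Spec (CommRingCat.of k)) := ⟨(Scheme.IdealSheafData.vanishingIdeal
        (⟨closure {z₀}, isClosed_closure⟩ : Closeds X)).subschemeι ≫ X ↘ Spec (CommRingCat.of k)⟩
    ∃ n : ℕ, (n ≠ 0 → IsTop r z₀) ∧ ∀ z : Fin r → Pic X, del (ev k F) z =
      (n : ℤ) * del (ev k (Coh.structureModule (Scheme.IdealSheafData.vanishingIdeal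
        (⟨closure {z₀}, isClosed_closure⟩ : Closeds X)).subscheme))
        (fun i => pull (Scheme.IdealSheafData.vanishingIdeal
          (⟨closure {z₀}, isClosed_closure⟩ : Closeds X)).subschemeι (z i)) := by
  let I := Scheme.IdealSheafData.vanishingIdeal (⟨closure {z₀}, isClosed_closure⟩ : Closeds X)
  letI : I.subscheme.Over (Spec (CommRingCat.of k)) := ⟨I.subschemeι ≫ X ↘ Spec (CommRingCat.of k)⟩
  haveI : IsProper (I.subscheme ↘ Spec (CommRingCat.of k)) :=
    inferInstanceAs (IsProper (I.subschemeι ≫ X ↘ Spec (CommRingCat.of k)))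
  haveI := Euler.isNoetherian_of_proper (X := X) k
  have hsum : ∀ z : Fin r → Pic X, mixed r (phi k r (fun i => rep (z i)) F) =
      mixed r (topTerm (phi k r (fun i => rep (z i))) r F z₀) := fun z => by
    have h := Snapper.mixed_eq_zero (Snapper.phi_sub_sum_mem k (L := fun i => rep (z i))
      (fun i => isInv_rep _) hF (hd.mono hsupp))
    rwa [finsum_eq_single _ z₀ fun x hne => Snapper.topTerm_eq_zero _ fun hx hxs => hne
      (hx.eq_of_specializes (specializes_iff_mem_closure.2 (hsupp hxs)) hd).symm, map_sub, sub_eq_zero] at h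
  by_cases ht : IsTop r z₀
  · refine ⟨mult F z₀, fun _ => ht, fun z => ?_⟩
    apply Int.cast_injective (α := ℚ)
    push_cast
    rw [FGAInt26.cast_del, hsum, Snapper.topTerm_of _ ht, map_nsmul, nsmul_eq_mul, FGAInt26.cast_del,
      HodgeProper12.phi_pull k I.subschemeι z]
    have hphi : phi k r (fun i => rep (z i)) (ptMod z₀) =
        phi k r (fun i => (Scheme.Modules.pullback I.subschemeι).obj (rep (z i))) (Coh.structureModule I.subscheme) :=
      funext fun n => (Snapper.phi_push k I.subschemeι rfl (fun i => isInv_rep (z i)) n).trans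
        (congrArg Int.cast (Euler.euler_of_iso k (OX.tensorUnitLeftIso _).symm))
    rw [hphi]
    ring
  · refine ⟨0, fun h => absurd rfl h, fun z => ?_⟩
    apply Int.cast_injective (α := ℚ)
    push_cast
    rw [FGAInt26.cast_del, hsum, Snapper.topTerm_eq_zero _ fun h => absurd h ht]
    simp

/-- The top self-number of an ample class is positive. -/
theorem pos_const [IrreducibleSpace X] {r : ℕ} (hd : topologicalKrullDim X = (r : WithBot ℕ∞))
    {H : X.Modules} (hH : CohB1.IsAmple H) :
    0 < (-1) ^ r * del (ev k (Coh.structureModule X)) (fun _ : Fin r => clsMod hH.1) := by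
  have hη : IsTop r (genericPoint X) := by
    show topologicalKrullDim (closure ({genericPoint X} : Set X)) = _
    rw [(genericPoint_spec X).def]
    exact (IsHomeomorph.topologicalKrullDim_eq _ (Homeomorph.Set.univ X).isHomeomorph).trans hd
  have h := FGAInt26.multiPos k r X (fun _ => H) (fun _ => hH) _ (Kleiman.isCoh_O k)
    (HodgeIndex.support_structure_dimLT k hd.le)
    ⟨genericPoint X, Kodaira.mem_support_of_isInvertible Euler.isInvertible_structure _, hη⟩
  rw [FGAInt26.mixed_eq_del k _ (fun _ => hH.1)] at h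
  exact_mod_cast h

end GrothLib.NumTriv12
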