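import Groth.Agent.Lib.NumTriv12.Geom

/-!
# The zero locus of the generic member of a pencil is irreducible
-/

universe u

set_option autoImplicit false
set_option linter.all false
set_option backward.isDefEq.respectTransparency false
set_option maxHeartbeats 800000
set_option synthInstance.maxHeartbeats 200000

open CategoryTheory CategoryTheory.Limits AlgebraicGeometry TopologicalSpace TensorProduct

noncomputable section

namespace GrothLib.NumTriv12

open GrothLib.Ample (Cocycle)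

/-- Transcendence of the ratio of two functions without common value. -/
theorem transcendental_of_mem {k A L : Type u} [Field k] [CommRing A] [Algebra k A] [Field L] [Algebra k L]
    (ε : A →ₐ[k] L) (hε : Function.Injective ε) {u v : A} {f : L} (hrel : ε u + ε v * f = 0)
    (P : Ideal A) [P.IsPrime] (hv : v ∈ P) (hu : u ∉ P) : Transcendental k f := by
  intro h
  let p := (minpoly k f).map (algebraMap k A)
  let q := p.scaleRoots v
  have hm : (minpoly k f).Monic := minpoly.monic h.isIntegral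
  have h0 : Polynomial.eval (-u) q = 0 := by
    apply hε
    rw [map_zero]
    have h1 : ε (-u) = ε.toRingHom v * f := by
      rw [map_neg, neg_eq_iff_add_eq_zero]; exact hrel
    change ε.toRingHom _ = 0
    rw [← Polynomial.eval₂_hom]
    change Polynomial.eval₂ ε.toRingHom (ε (-u)) q = 0
    rw [h1]
    refine Polynomial.scaleRoots_eval₂_eq_zero ε.toRingHom ?_
    rw [Polynomial.eval₂_map, show ε.toRingHom.comp (algebraMap k A) = algebraMap k L from ε.comp_algebraMap]
    exact minpoly.aeval k f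
  have h2 : q.Monic := Polynomial.monic_scaleRoots_iff v |>.2 (hm.map _)
  have h3 := congrArg (Ideal.Quotient.mk P) h0
  rw [map_zero, ← Polynomial.eval₂_hom, ← Polynomial.eval_map] at h3
  have h4 : q.map (Ideal.Quotient.mk P) = Polynomial.X ^ q.natDegree := by
    rw [show q = p.scaleRoots v from rfl, Polynomial.map_scaleRoots _ _ _ ?_]
    · rw [show Ideal.Quotient.mk P v = 0 from Ideal.Quotient.eq_zero_iff_mem.2 hv, Polynomial.scaleRoots_zero,
        Polynomial.natDegree_scaleRoots, ((hm.map _).map _).leadingCoeff, one_smul, (hm.map _).natDegree_map]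
    · rw [(hm.map _).leadingCoeff, map_one]; exact one_ne_zero
  rw [h4, Polynomial.eval_pow, Polynomial.eval_X, ← map_pow, Ideal.Quotient.eq_zero_iff_mem] at h3
  exact hu (by simpa using Ideal.IsPrime.mem_of_pow_mem ‹_› _ h3)

variable (k : Type u) [Field k] {X : Scheme.{u}} [X.Over (Spec (CommRingCat.of k))]
  [IsIntegral X] [IsProper (X ↘ Spec (CommRingCat.of k))] (c : Cocycle X) {m : ℕ}

/-- The value of a section at the generic point, in a piece. -/
def gv (i : c.ι) (hi : genericPoint X ∈ c.D i) (a : c.sect m ⊤) : X.functionField :=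
  X.presheaf.germ (⊤ ⊓ c.D i) (genericPoint X) ⟨trivial, hi⟩ (a.1 i)

omit [X.Over (Spec (CommRingCat.of k))] [IsProper (X ↘ Spec (CommRingCat.of k))] in
theorem gv_cross {i j : c.ι} (hi : genericPoint X ∈ c.D i) (hj : genericPoint X ∈ c.D j) (a b : c.sect m ⊤) :
    gv c i hi a * gv c j hj b = gv c j hj a * gv c i hi b := by
  let W : X.Opens := (⊤ ⊓ c.D i) ⊓ (⊤ ⊓ c.D j)
  have hW : genericPoint X ∈ W := ⟨⟨trivial, hi⟩, trivial, hj⟩
  have e : ∀ d : c.sect m ⊤, gv c i hi d =
      X.presheaf.germ W _ hW (c.G i j ((inf_le_left : W ≤ _).trans inf_le_right) (inf_le_right.trans inf_le_right) ^ m) *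
        gv c j hj d := fun d => by
    have h := congrArg (X.presheaf.germ W _ hW) (c.sect_spec d i j (inf_le_left : W ≤ _) inf_le_right)
    rw [map_mul] at h
    exact ((X.presheaf.germ_res_apply _ _ hW _).symm.trans h).trans
      (congrArg (fun x => _ * x) (X.presheaf.germ_res_apply _ _ hW _))
  rw [e a, e b]
  ring

variable (U V : c.sect m ⊤)

theorem mem_locus_of_basic {i : c.ι} {x : X} (hi : x ∈ c.D i) (a : c.sect m ⊤) :
    x ∈ c.locus a ↔ IsUnit (X.presheaf.germ (⊤ ⊓ c.D i) x ⟨trivial, hi⟩ (a.1 i)) := by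
  rw [c.mem_locus_iff a hi]
  exact Scheme.mem_basicOpen _ _ _ _

/-- The hypotheses on the pencil. -/
structure Good : Prop where
  hV : genericPoint X ∈ c.locus V
  hw : ∃ x, x ∈ c.locus U ∧ x ∉ c.locus V
  h2 : ∀ x, x ∉ c.locus U → x ∉ c.locus V → ∃ y, y ≠ genericPoint X ∧ y ⤳ x ∧ y ≠ x

variable {c U V}

theorem exists_data (hg : Good c U V) : letI : Algebra k X.functionField := (ffHom k).toAlgebra
    ∃ f : X.functionField, Transcendental k f ∧
      ∀ (i : c.ι) (hi : genericPoint X ∈ c.D i), gv c i hi U + gv c i hi V * f = 0 := by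
  letI : Algebra k X.functionField := (ffHom k).toAlgebra
  obtain ⟨x, hxU, hxV⟩ := hg.hw
  obtain ⟨i₀, hx₀⟩ := c.exists_mem x
  obtain ⟨_, ⟨W, hW, rfl⟩, hxW, hWD⟩ := X.isBasis_affineOpens.exists_subset_of_mem_open hx₀ (c.D i₀).2
  haveI : Nonempty W := ⟨⟨x, hxW⟩⟩
  have hη : genericPoint X ∈ W := ((genericPoint_spec X).mem_open_set_iff W.2).mpr ⟨x, trivial, hxW⟩
  have hi₀ : genericPoint X ∈ c.D i₀ := hWD hη
  have hV0 : gv c i₀ hi₀ V ≠ 0 := ((mem_locus_of_basic c hi₀ V).1 hg.hV).ne_zero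
  refine ⟨- gv c i₀ hi₀ U / gv c i₀ hi₀ V, ?_, fun i hi => ?_⟩
  · letI : Algebra k Γ(X, W) := (strHom k hW).hom.toAlgebra
    let ε := epsW k hW (RingHom.id X.functionField) (L := X.functionField) rfl
    have hε : ∀ a : c.sect m ⊤, ε (rW c hWD a) = gv c i₀ hi₀ a := fun a => X.presheaf.germ_res_apply _ _ hη _
    have hP : ∀ a : c.sect m ⊤, x ∈ c.locus a ↔ rW c hWD a ∉ (hW.primeIdealOf ⟨x, hxW⟩).asIdeal := fun a => by
      rw [c.mem_locus_iff a (hWD hxW)]
      have e : x ∈ X.basicOpen (a.1 i₀) ↔ x ∈ X.basicOpen (rW c hWD a) := by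
        show _ ↔ x ∈ X.basicOpen (X.presheaf.map _ _)
        rw [Scheme.basicOpen_res]
        exact ⟨fun h => ⟨hxW, h⟩, fun h => h.2⟩
      rw [e]
      have := hW.fromSpec_preimage_basicOpen (rW c hWD a)
      refine (Iff.of_eq (congrArg (· ∈ X.basicOpen (rW c hWD a)) (hW.fromSpec_primeIdealOf ⟨x, hxW⟩).symm)).trans ?_
      exact SetLike.ext_iff.1 this (hW.primeIdealOf ⟨x, hxW⟩)
    refine transcendental_of_mem ε (epsW_injective k hW _ rfl) (u := rW c hWD U) (v := rW c hWD V) ?_
      (hW.primeIdealOf ⟨x, hxW⟩).asIdeal (by_contra fun h => hxV ((hP V).2 h)) ((hP U).1 hxU)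
    rw [hε, hε, mul_div_cancel₀ _ hV0, add_neg_cancel]
  · field_simp
    linear_combination gv_cross c hi hi₀ U V

/-- The zero locus of the generic member. -/
theorem exists_generic (hg : Good c U V) :
    ∃ z₀ : ↥(Curv2.bc k X (RatFunc k)),
      ((c.comap (Curv2.bcFst k X (RatFunc k))).locus (pencil k c U V) : Set _)ᶜ = closure {z₀} ∧
      genericPoint (Curv2.bc k X (RatFunc k)) ∈ (c.comap (Curv2.bcFst k X (RatFunc k))).locus (pencil k c U V) := by
  letI : Algebra k X.functionField := (ffHom k).toAlgebra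
  obtain ⟨f, hf, hrel⟩ := exists_data k hg
  let z₀ := pt k (RingHom.id X.functionField) (L := X.functionField) rfl hf
  let c' := c.comap (Curv2.bcFst k X (RatFunc k))
  have key : ∀ (i : c.ι) (W : X.Opens) (hW : IsAffineOpen W) (hWi : W ≤ c.D i) [Nonempty W],
      letI : Algebra k Γ(X, W) := (strHom k hW).hom.toAlgebra
      (z₀ ∈ Set.range (chart k hW) ∧ z₀ ∉ c'.locus (pencil k c U V)) ∧
      genericPoint (Curv2.bc k X (RatFunc k)) ∈ c'.locus (pencil k c U V) ∧
      ∀ y : PrimeSpectrum (Γ(X, W) ⊗[k] RatFunc k), chart k hW y ∉ c'.locus (pencil k c U V) →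
        z₀ ⤳ chart k hW y := by
    intro i W hW hWi hne
    letI : Algebra k Γ(X, W) := (strHom k hW).hom.toAlgebra
    have hη : genericPoint X ∈ W := ((genericPoint_spec X).mem_open_set_iff W.2).mpr
      (hne.elim fun x => ⟨x.1, trivial, x.2⟩)
    haveI : Algebra.FiniteType k Γ(X, W) := by
      have h : LocallyOfFiniteType (Spec.map (strHom k hW)) := by rw [strHom_spec]; infer_instance
      exact (HasRingHomProperty.Spec_iff (P := @LocallyOfFiniteType)).1 h
    let ε := epsW k hW (RingHom.id X.functionField) (L := X.functionField) rfl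
    have hεinj : Function.Injective ε := epsW_injective k hW _ rfl
    have hε : ∀ a : c.sect m ⊤, ε (rW c hWi a) = gv c i (hWi hη) a := fun a => X.presheaf.germ_res_apply _ _ hη _
    have hr : ε (rW c hWi U) + ε (rW c hWi V) * f = 0 := by rw [hε, hε]; exact hrel _ _
    have hv : rW c hWi V ≠ 0 := by
      intro h
      have := hε V
      rw [h, map_zero] at this
      exact ((mem_locus_of_basic c (hWi hη) V).1 hg.hV).ne_zero this.symm
    obtain ⟨y₀, hy₀, hy₀k⟩ := exists_pt_chart k hW (RingHom.id X.functionField) (L := X.functionField) rfl hf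
    have hτ : tau k (rW c hWi U) (rW c hWi V) ∈ y₀.asIdeal := by
      rw [hy₀k]
      show point ε hf _ = 0
      rw [tau, map_add, map_mul, point_tmul_one, point_tmul_one, point_tt, hr]
    refine ⟨⟨⟨y₀, hy₀⟩, ?_⟩, ?_, fun y hy => ?_⟩
    · show z₀ ∉ _
      rw [show z₀ = chart k hW y₀ from hy₀.symm]
      exact fun h => (mem_locus_chart k hW c U V hWi y₀).1 h hτ
    · haveI := isDomain k Γ(X, W)
      refine ((genericPoint_spec _).mem_open_set_iff (c'.locus (pencil k c U V)).2).mpr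
        ⟨chart k hW ⟨⊥, Ideal.isPrime_bot⟩, trivial, (mem_locus_chart k hW c U V hWi ⟨⊥, Ideal.isPrime_bot⟩).2 ?_⟩
      exact fun h => tau_ne_zero hv h
    · have hy' : tau k (rW c hWi U) (rW c hWi V) ∈ y.asIdeal :=
        by_contra fun h => hy ((mem_locus_chart k hW c U V hWi y).2 h)
      have hle := point_ker_le ε hεinj hf hr hv (fun P hP hu hv => ?_) y.asIdeal hy'
      · rw [show z₀ = chart k hW y₀ from hy₀.symm]
        refine ((PrimeSpectrum.le_iff_specializes y₀ y).1 ?_).map (chart k hW).continuous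
        show y₀.asIdeal ≤ y.asIdeal
        rw [hy₀k]
        exact hle
      · have hmem : ∀ a : c.sect m ⊤, rW c hWi a ∈ P → hW.fromSpec ⟨P, hP⟩ ∉ c.locus a := fun a ha h => by
          have hx : hW.fromSpec ⟨P, hP⟩ ∈ W := by rw [← SetLike.mem_coe, ← hW.range_fromSpec]; exact ⟨_, rfl⟩
          rw [c.mem_locus_iff a (hWi hx)] at h
          have h2 : hW.fromSpec ⟨P, hP⟩ ∈ X.basicOpen (rW c hWi a) := by
            show _ ∈ X.basicOpen (X.presheaf.map _ _)
            rw [Scheme.basicOpen_res]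
            exact ⟨hx, h⟩
          have h3 : (⟨P, hP⟩ : PrimeSpectrum Γ(X, W)) ∈ hW.fromSpec ⁻¹ᵁ X.basicOpen (rW c hWi a) := h2
          rw [hW.fromSpec_preimage_basicOpen] at h3
          exact h3 ha
        obtain ⟨y', hy1, hy2, hy3⟩ := hg.h2 _ (hmem U hu) (hmem V hv)
        have hx : hW.fromSpec ⟨P, hP⟩ ∈ W := by rw [← SetLike.mem_coe, ← hW.range_fromSpec]; exact ⟨_, rfl⟩
        have hy'W : y' ∈ W := hy2.mem_open W.2 hx
        obtain ⟨P₁, rfl⟩ : y' ∈ Set.range hW.fromSpec := by rw [hW.range_fromSpec]; exact hy'W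
        refine ⟨P₁.asIdeal, P₁.2, fun h => hy1 ?_, lt_of_le_of_ne ?_ fun h => hy3 ?_⟩
        · rw [← genericPoint_eq_of_isOpenImmersion hW.fromSpec, genericPoint_eq_bot_of_affine]
          exact congrArg hW.fromSpec (PrimeSpectrum.ext h)
        · exact (PrimeSpectrum.le_iff_specializes P₁ ⟨P, hP⟩).2 (hW.fromSpec.isOpenEmbedding.isInducing.specializes_iff.1 hy2)
        · exact congrArg hW.fromSpec (PrimeSpectrum.ext h)
  obtain ⟨x, -, -⟩ := hg.hw
  obtain ⟨i, hi⟩ := c.exists_mem x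
  obtain ⟨_, ⟨W, hW, rfl⟩, hxW, hWD⟩ := X.isBasis_affineOpens.exists_subset_of_mem_open hi (c.D i).2
  haveI : Nonempty W := ⟨⟨x, hxW⟩⟩
  obtain ⟨⟨-, hz₀⟩, hgen, -⟩ := key i W hW hWD
  refine ⟨z₀, Set.Subset.antisymm (fun z hz => ?_) ?_, hgen⟩
  · obtain ⟨l, hl⟩ := c.exists_mem (Curv2.bcFst k X (RatFunc k) z)
    obtain ⟨W', hW', hW'l, hzW', y, rfl⟩ := exists_chart k z hl
    haveI : Nonempty W' := ⟨⟨_, hzW'⟩⟩
    exact specializes_iff_mem_closure.1 ((key l W' hW' hW'l).2.2 y hz)
  · exact closure_minimal (Set.singleton_subset_iff.2 hz₀) (c'.locus (pencil k c U V)).2.isClosed_compl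

/-- The base locus of the pencil lies on the generic member. -/
theorem notMem_locus {z : ↥(Curv2.bc k X (RatFunc k))} (hU : Curv2.bcFst k X (RatFunc k) z ∉ c.locus U)
    (hV : Curv2.bcFst k X (RatFunc k) z ∉ c.locus V) :
    z ∉ (c.comap (Curv2.bcFst k X (RatFunc k))).locus (pencil k c U V) := by
  let p := Curv2.bcFst k X (RatFunc k)
  obtain ⟨i, hi⟩ := (c.comap p).exists_mem z
  have hh : ∀ a : c.sect m ⊤, p z ∉ c.locus a → ¬ IsUnit ((Curv2.bc k X (RatFunc k)).presheaf.germ
      (⊤ ⊓ p ⁻¹ᵁ c.D i) z ⟨trivial, hi⟩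
      ((c.pullSect p (le_top : (⊤ : (Curv2.bc k X (RatFunc k)).Opens) ≤ p ⁻¹ᵁ ⊤) a).1 i)) := fun a ha h => by
    have h2 := (c.comap p).mem_locus_iff (c.pullSect p (le_top : (⊤ : (Curv2.bc k X (RatFunc k)).Opens) ≤ p ⁻¹ᵁ ⊤) a) (i := i) hi
    rw [c.locus_pullSect] at h2
    exact ha (h2.2 ((Scheme.mem_basicOpen _ _ _ _).2 h))
  intro h
  rw [(c.comap p).mem_locus_iff _ (i := i) hi] at h
  replace h := (Scheme.mem_basicOpen (Curv2.bc k X (RatFunc k)) ((pencil k c U V).1 i) z ⟨trivial, hi⟩).1 h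
  simp only [pencil, AddSubgroup.coe_add, Pi.add_apply, GrothLib.Ample.Cocycle.smul_apply, map_add, map_mul] at h
  rcases IsLocalRing.isUnit_or_isUnit_of_isUnit_add h with h1 | h1
  · exact hh U hU h1
  · exact hh V hV (isUnit_of_mul_isUnit_right h1)

end GrothLib.NumTriv12
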